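import Groth.Agent.H40.FG.Groupoid
import Mathlib.LinearAlgebra.TensorProduct.Basis

/-!
# A basis of `Γ(R)` over `Γ(U)` of the form `t♯ x_i` gives a basis `x_i` of `Γ(U)` over the
invariants
-/

set_option autoImplicit false
set_option backward.isDefEq.respectTransparency.types false
universe u

open CategoryTheory CategoryTheory.Limits AlgebraicGeometry Grpd TensorProduct

namespace Groth.Agent.H40.FG

/-- uniqueness of coefficients after base change of a basis along a pushout square. -/
theorem coeff_unique_baseChange {A B A' B' : Type u} [CommRing A] [CommRing B] [CommRing A']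
    [CommRing B'] (f : A →+* B) (g : A →+* A') (g' : B →+* B') (f' : A' →+* B')
    (hpo : IsPushout (CommRingCat.ofHom g) (CommRingCat.ofHom f) (CommRingCat.ofHom f')
      (CommRingCat.ofHom g')) {I : Type u}
    (b : letI := f.toAlgebra; Module.Basis I A B) (v w : I →₀ A')
    (h : (v.sum fun i a' => f' a' * g' (b i)) = w.sum fun i a' => f' a' * g' (b i)) : v = w := by
  have hw : f'.comp g = g'.comp f := by
    have := congrArg CommRingCat.Hom.hom hpo.w
    simpa only [CommRingCat.hom_comp, CommRingCat.hom_ofHom] using this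
  letI := g.toAlgebra
  letI := f.toAlgebra
  letI := f'.toAlgebra
  letI := g'.toAlgebra
  letI : Algebra A B' := (f'.comp g).toAlgebra
  haveI : IsScalarTower A A' B' := IsScalarTower.of_algebraMap_eq (fun _ => rfl)
  haveI : IsScalarTower A B B' := IsScalarTower.of_algebraMap_eq (fun x => by
    change (f'.comp g) x = (g'.comp f) x
    rw [hw])
  have hP : Algebra.IsPushout A A' B B' := CommRingCat.isPushout_iff_isPushout.mp hpo
  have hbc := hP.out
  let b' : Module.Basis I A' B' := (b.baseChange A').map hbc.equiv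
  have hb' : ∀ i, b' i = g' (b i) := fun i => by
    change hbc.equiv ((b.baseChange A') i) = g' (b i)
    rw [Module.Basis.baseChange_apply, hbc.equiv_tmul, one_smul]
    rfl
  have key : ∀ u : I →₀ A', (u.sum fun i a' => f' a' * g' (b i)) = b'.repr.symm u := by
    intro u
    rw [Module.Basis.repr_symm_apply, Finsupp.linearCombination_apply]
    refine Finsupp.sum_congr fun i _ => ?_
    rw [hb', Algebra.smul_def]
    rfl
  rw [key, key] at h
  exact b'.repr.symm.injective h

variable {S : Scheme.{u}} (G : GroupoidScheme S) [IsAffine G.U] [IsAffine G.R]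

theorem fst_appTop_σ (a : Γ(G.U, ⊤)) :
    (pullback.fst G.s G.t).appTop.hom (σ G a) = (pullback.snd G.s G.t).appTop.hom (τ G a) := by
  have h : (pullback.fst G.s G.t ≫ G.s).appTop = (pullback.snd G.s G.t ≫ G.t).appTop := by
    rw [pullback.condition]
  rw [Scheme.Hom.comp_appTop, Scheme.Hom.comp_appTop] at h
  exact congrArg (fun φ => φ.hom a) h

theorem c_appTop_σ (a : Γ(G.U, ⊤)) :
    G.c.appTop.hom (σ G a) = (pullback.snd G.s G.t).appTop.hom (σ G a) := by
  have h : (G.c ≫ G.s).appTop = (pullback.snd G.s G.t ≫ G.s).appTop := by rw [c_s]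
  rw [Scheme.Hom.comp_appTop, Scheme.Hom.comp_appTop] at h
  exact congrArg (fun φ => φ.hom a) h

section

variable {I : Type u} (x : I → Γ(G.U, ⊤))
  (b : letI := (σ G).toAlgebra; Module.Basis I Γ(G.U, ⊤) Γ(G.R, ⊤))
  (hb : ∀ i, b i = τ G (x i))

include hb

/-- the coefficients of `t♯ a` in a basis of the form `t♯ x_i` are invariant. -/
theorem repr_τ_mem_invariants (a : Γ(G.U, ⊤)) (i : I) :
    (letI := (σ G).toAlgebra; b.repr (τ G a) i) ∈ G.invariants := by
  letI := (σ G).toAlgebra
  rw [mem_invariants_iff]
  set r := b.repr (τ G a) with hr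
  have hsum : τ G a = r.sum fun i c => σ G c * b i := by
    have h1 := b.linearCombination_repr (τ G a)
    rw [Finsupp.linearCombination_apply] at h1
    rw [← h1]
    refine Finsupp.sum_congr fun i _ => ?_
    rw [Algebra.smul_def]
    rfl
  let p₀ := (pullback.fst G.s G.t).appTop.hom
  let p₁ := (pullback.snd G.s G.t).appTop.hom
  have hpo := isPushout_appTop_of_isPullback (IsPullback.of_hasPullback G.s G.t).flip
  have e1 : p₀ (τ G a) = (r.mapRange (τ G) (map_zero _)).sum fun i a' => p₁ a' * p₀ (b i) := by
    conv_lhs => rw [hsum]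
    rw [map_finsuppSum, Finsupp.sum_mapRange_index (fun i => by simp)]
    refine Finsupp.sum_congr fun i _ => ?_
    rw [map_mul, fst_appTop_σ]
  have e2 : G.c.appTop.hom (τ G a) =
      (r.mapRange (σ G) (map_zero _)).sum fun i a' => p₁ a' * p₀ (b i) := by
    conv_lhs => rw [hsum]
    rw [map_finsuppSum, Finsupp.sum_mapRange_index (fun i => by simp)]
    refine Finsupp.sum_congr fun i _ => ?_
    rw [map_mul, c_appTop_σ, hb, c_appTop_τ]
  rw [c_appTop_τ, e1] at e2
  have := coeff_unique_baseChange (σ G) (τ G) p₀ p₁ hpo b _ _ e2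
  have h3 := DFunLike.congr_fun this i
  rw [Finsupp.mapRange_apply, Finsupp.mapRange_apply] at h3
  exact h3.symm

/-- the expansion of `a` in the `x_i`. -/
theorem eq_sum_repr (a : Γ(G.U, ⊤)) :
    a = (letI := (σ G).toAlgebra; (b.repr (τ G a)).sum fun i c => c * x i) := by
  letI := (σ G).toAlgebra
  set r := b.repr (τ G a) with hr
  have hsum : τ G a = r.sum fun i c => σ G c * b i := by
    have h1 := b.linearCombination_repr (τ G a)
    rw [Finsupp.linearCombination_apply] at h1
    rw [← h1]
    refine Finsupp.sum_congr fun i _ => ?_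
    rw [Algebra.smul_def]
    rfl
  have h2 := congrArg (ε G) hsum
  rw [ε_τ, map_finsuppSum] at h2
  rw [h2]
  refine Finsupp.sum_congr fun i _ => ?_
  rw [map_mul, ε_σ, hb, ε_τ]

end

end Groth.Agent.H40.FG
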