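import Groth.Agent.H40.FG.AGrpd
import Groth.Agent.H40.FG.BasisInv
import Mathlib.LinearAlgebra.TensorProduct.Basis
import Mathlib.RingTheory.TensorProduct.Maps

/-!
# Algebraic groupoids: a basis of `B` over `A` of the form `τ x_i` gives a basis `x_i` of `A` over
the invariants, and `A ⊗ A ≃ B`
-/

set_option autoImplicit false
set_option backward.isDefEq.respectTransparency.types false
universe u

open CategoryTheory CategoryTheory.Limits TensorProduct

namespace Groth.Agent.H40.FG

namespace AGrpd

variable {K A B E : Type u} [CommRing K] [CommRing A] [CommRing B] [CommRing E]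
    [Algebra K A] [Algebra K B] [Algebra K E] (H : AGrpd K A B E)

section

variable {I : Type u} (x : I → A)
  (b : letI := H.σ.toRingHom.toAlgebra; Module.Basis I A B)
  (hb : ∀ i, b i = H.τ (x i))

include hb

/-- the coefficients of `τ a` in a basis of the form `τ x_i` are invariant. -/
theorem repr_τ_invariant (a : A) (i : I) :
    H.σ (letI := H.σ.toRingHom.toAlgebra; b.repr (H.τ a) i) =
      H.τ (letI := H.σ.toRingHom.toAlgebra; b.repr (H.τ a) i) := by
  letI := H.σ.toRingHom.toAlgebra
  set r := b.repr (H.τ a) with hr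
  have hsum : H.τ a = r.sum fun i c => H.σ c * b i := by
    have h1 := b.linearCombination_repr (H.τ a)
    rw [Finsupp.linearCombination_apply] at h1
    rw [← h1]
    refine Finsupp.sum_congr fun i _ => ?_
    rw [Algebra.smul_def]
    rfl
  have e1 : H.p₀ (H.τ a) =
      (r.mapRange H.τ (map_zero _)).sum fun i a' => H.p₁ a' * H.p₀ (b i) := by
    conv_lhs => rw [hsum]
    rw [map_finsuppSum, Finsupp.sum_mapRange_index (fun i => by simp)]
    refine Finsupp.sum_congr fun i _ => ?_
    rw [map_mul, H.p₁_τ]
  have e2 : H.γ (H.τ a) =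
      (r.mapRange H.σ (map_zero _)).sum fun i a' => H.p₁ a' * H.p₀ (b i) := by
    conv_lhs => rw [hsum]
    rw [map_finsuppSum, Finsupp.sum_mapRange_index (fun i => by simp)]
    refine Finsupp.sum_congr fun i _ => ?_
    rw [map_mul, ← H.p₁_σ, hb, H.γ_τ]
  rw [H.γ_τ, e1] at e2
  have := coeff_unique_baseChange H.σ.toRingHom H.τ.toRingHom H.p₀.toRingHom H.p₁.toRingHom
    H.po₁ b _ _ e2
  have h3 := DFunLike.congr_fun this i
  rw [Finsupp.mapRange_apply, Finsupp.mapRange_apply] at h3
  exact h3.symm

/-- the expansion of `a` in the `x_i`. -/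
theorem eq_sum_repr (a : A) :
    a = (letI := H.σ.toRingHom.toAlgebra; (b.repr (H.τ a)).sum fun i c => c * x i) := by
  letI := H.σ.toRingHom.toAlgebra
  set r := b.repr (H.τ a) with hr
  have hsum : H.τ a = r.sum fun i c => H.σ c * b i := by
    have h1 := b.linearCombination_repr (H.τ a)
    rw [Finsupp.linearCombination_apply] at h1
    rw [← h1]
    refine Finsupp.sum_congr fun i _ => ?_
    rw [Algebra.smul_def]
    rfl
  have h2 := congrArg H.ε hsum
  rw [H.ε_τ, map_finsuppSum] at h2
  rw [h2]
  refine Finsupp.sum_congr fun i _ => ?_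
  rw [map_mul, H.ε_σ, hb, H.ε_τ]

variable (hex : ∀ a, H.σ a = H.τ a → a ∈ Set.range (algebraMap K A))

include hex

theorem span_eq_top_of_basis : ⊤ ≤ Submodule.span K (Set.range x) := by
  letI := H.σ.toRingHom.toAlgebra
  intro a _
  rw [H.eq_sum_repr x b hb a]
  refine Submodule.sum_mem _ fun i _ => ?_
  obtain ⟨c, hc⟩ := hex _ (H.repr_τ_invariant x b hb a i)
  change (b.repr (H.τ a) i) * x i ∈ _
  rw [← hc, ← Algebra.smul_def]
  exact Submodule.smul_mem _ _ (Submodule.subset_span ⟨i, rfl⟩)

omit hex in
theorem τ_linearCombination (l : I →₀ K) :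
    H.τ (Finsupp.linearCombination K x l) =
      (l.mapRange (algebraMap K A) (map_zero _)).sum fun i c => H.σ c * b i := by
  rw [Finsupp.linearCombination_apply, map_finsuppSum,
    Finsupp.sum_mapRange_index (fun i => by simp)]
  refine Finsupp.sum_congr fun i _ => ?_
  rw [Algebra.smul_def, map_mul, hb, AlgHom.commutes, AlgHom.commutes]

omit hex hb in
theorem sum_eq_repr_symm (v : I →₀ A) :
    (v.sum fun i c => H.σ c * b i) =
      (letI := H.σ.toRingHom.toAlgebra; b.repr.symm v) := by
  letI := H.σ.toRingHom.toAlgebra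
  rw [Module.Basis.repr_symm_apply, Finsupp.linearCombination_apply]
  refine Finsupp.sum_congr fun i _ => ?_
  rw [Algebra.smul_def]
  rfl

omit hex in
theorem linearIndependent_of_basis (hinj : Function.Injective (algebraMap K A)) :
    LinearIndependent K x := by
  letI := H.σ.toRingHom.toAlgebra
  rw [linearIndependent_iff]
  intro l hl
  have h1 := H.τ_linearCombination x b hb l
  rw [hl, map_zero, H.sum_eq_repr_symm b] at h1
  have h2 : l.mapRange (algebraMap K A) (map_zero _) = 0 := by
    apply b.repr.symm.injective
    rw [← h1, map_zero]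
  ext i
  have h3 := DFunLike.congr_fun h2 i
  rw [Finsupp.mapRange_apply, Finsupp.zero_apply] at h3
  apply hinj
  rw [h3]
  simp

/-- the basis `x_i` of `A` over `K`. -/
noncomputable def basisK (hinj : Function.Injective (algebraMap K A)) : Module.Basis I K A :=
  Module.Basis.mk (H.linearIndependent_of_basis x b hb hinj)
    (H.span_eq_top_of_basis x b hb hex)

theorem basisK_apply (hinj : Function.Injective (algebraMap K A)) (i : I) :
    H.basisK x b hb hex hinj i = x i :=
  Module.Basis.mk_apply _ _ i

/-- `a ⊗ a' ↦ τ a * σ a'` is bijective. -/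
theorem productMap_bijective (hinj : Function.Injective (algebraMap K A)) :
    Function.Bijective (Algebra.TensorProduct.productMap H.τ H.σ) := by
  classical
  letI := H.σ.toRingHom.toAlgebra
  let bC := H.basisK x b hb hex hinj
  let Eq := TensorProduct.equivFinsuppOfBasisLeft (N := A) bC
  let ψ : (I →₀ A) → B := fun v => v.sum fun i c => H.σ c * b i
  have hψ : ∀ v, ψ v = b.repr.symm v := fun v => H.sum_eq_repr_symm b v
  have hψadd : ∀ v w, ψ (v + w) = ψ v + ψ w := fun v w => by
    rw [hψ, hψ, hψ, map_add]
  have key : ∀ z, Algebra.TensorProduct.productMap H.τ H.σ z = ψ (Eq z) := by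
    intro z
    induction z using TensorProduct.induction_on with
    | zero =>
      rw [map_zero, map_zero]
      exact (Finsupp.sum_zero_index).symm
    | tmul a a' =>
      rw [Algebra.TensorProduct.productMap_apply_tmul]
      change _ = ψ (TensorProduct.equivFinsuppOfBasisLeft bC (a ⊗ₜ a'))
      rw [TensorProduct.equivFinsuppOfBasisLeft_apply_tmul]
      change _ = Finsupp.sum _ _
      rw [Finsupp.sum_mapRange_index (fun i => by simp)]
      have h1 := H.τ_linearCombination x b hb (bC.repr a)
      have hx : ∀ i, bC i = x i := H.basisK_apply x b hb hex hinj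
      have hx' : ⇑bC = x := funext hx
      have h0 : Finsupp.linearCombination K x (bC.repr a) = a := by
        rw [← hx']
        exact bC.linearCombination_repr a
      rw [h0] at h1
      rw [h1, Finsupp.sum_mapRange_index (h := fun i c => H.σ c * b i) (fun i => by simp),
        Finsupp.sum_mul]
      refine Finsupp.sum_congr fun i _ => ?_
      rw [Algebra.smul_def, map_mul]
      ring
    | add z w hz hw =>
      rw [map_add, map_add, hψadd, hz, hw]
  constructor
  · intro z z' h
    rw [key, key, hψ, hψ] at h
    exact Eq.injective (b.repr.symm.injective h)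
  · intro y
    refine ⟨Eq.symm (b.repr y), ?_⟩
    rw [key, LinearEquiv.apply_symm_apply, hψ, LinearEquiv.symm_apply_apply]

end

end AGrpd

end Groth.Agent.H40.FG
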