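import Mathlib.Algebra.Category.Ring.Constructions
import Mathlib.RingTheory.TensorProduct.Maps

/-!
# Pushout squares of commutative algebras are stable under `– ⊗[R] R'`
-/

set_option autoImplicit false
universe u

open CategoryTheory CategoryTheory.Limits TensorProduct

namespace Groth.Agent.H40.FG

section

variable {R : Type u} [CommRing R] (R' : Type u) [CommRing R'] [Algebra R R']
variable {X Y Z W : Type u} [CommRing X] [CommRing Y] [CommRing Z] [CommRing W]
  [Algebra R X] [Algebra R Y] [Algebra R Z] [Algebra R W]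

/-- `f ⊗ id`. -/
noncomputable abbrev bcMap (f : X →ₐ[R] Y) : X ⊗[R] R' →ₐ[R] Y ⊗[R] R' :=
  Algebra.TensorProduct.map f (AlgHom.id R R')

theorem bcMap_tmul (f : X →ₐ[R] Y) (x : X) (r : R') : bcMap R' f (x ⊗ₜ r) = f x ⊗ₜ r := by
  simp [bcMap]

/-- the base change square of an algebra map is a pushout. -/
theorem isPushout_bcMap (f : X →ₐ[R] Y) :
    IsPushout (CommRingCat.ofHom f.toRingHom)
      (CommRingCat.ofHom (Algebra.TensorProduct.includeLeftRingHom : X →+* X ⊗[R] R'))
      (CommRingCat.ofHom (Algebra.TensorProduct.includeLeftRingHom : Y →+* Y ⊗[R] R'))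
      (CommRingCat.ofHom (bcMap R' f).toRingHom) := by
  have hX := (CommRingCat.isPushout_tensorProduct R X R')
  have hY := (CommRingCat.isPushout_tensorProduct R Y R')
  have e1 : CommRingCat.ofHom (algebraMap R X) ≫ CommRingCat.ofHom f.toRingHom =
      CommRingCat.ofHom (algebraMap R Y) := by
    ext r
    simp
  have e2 : CommRingCat.ofHom (S := X ⊗[R] R')
        (Algebra.TensorProduct.includeRight : R' →ₐ[R] X ⊗[R] R').toRingHom ≫
      CommRingCat.ofHom (bcMap R' f).toRingHom =
      CommRingCat.ofHom (S := Y ⊗[R] R')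
        (Algebra.TensorProduct.includeRight : R' →ₐ[R] Y ⊗[R] R').toRingHom := by
    ext r
    simp [bcMap]
  rw [← e1, ← e2] at hY
  refine IsPushout.of_left hY ?_ hX
  ext x
  simp [bcMap]

/-- a pushout square of `R`-algebras stays a pushout square after `– ⊗[R] R'`. -/
theorem tensor_isPushout (f : X →ₐ[R] Y) (g : X →ₐ[R] Z) (h : Y →ₐ[R] W) (k : Z →ₐ[R] W)
    (hpo : IsPushout (CommRingCat.ofHom f.toRingHom) (CommRingCat.ofHom g.toRingHom)
      (CommRingCat.ofHom h.toRingHom) (CommRingCat.ofHom k.toRingHom)) :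
    IsPushout (CommRingCat.ofHom (bcMap R' f).toRingHom) (CommRingCat.ofHom (bcMap R' g).toRingHom)
      (CommRingCat.ofHom (bcMap R' h).toRingHom) (CommRingCat.ofHom (bcMap R' k).toRingHom) := by
  have hh := (isPushout_bcMap R' h).flip
  have hg := (isPushout_bcMap R' g).flip
  have outer := hpo.paste_horiz hh
  have e1 : CommRingCat.ofHom f.toRingHom ≫
      CommRingCat.ofHom (Algebra.TensorProduct.includeLeftRingHom : Y →+* Y ⊗[R] R') =
      CommRingCat.ofHom (Algebra.TensorProduct.includeLeftRingHom : X →+* X ⊗[R] R') ≫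
        CommRingCat.ofHom (bcMap R' f).toRingHom := by
    ext x
    simp [bcMap]
  have e2 : CommRingCat.ofHom k.toRingHom ≫
      CommRingCat.ofHom (Algebra.TensorProduct.includeLeftRingHom : W →+* W ⊗[R] R') =
      CommRingCat.ofHom (Algebra.TensorProduct.includeLeftRingHom : Z →+* Z ⊗[R] R') ≫
        CommRingCat.ofHom (bcMap R' k).toRingHom := by
    ext x
    simp [bcMap]
  rw [e1, e2] at outer
  refine IsPushout.of_left outer ?_ hg
  have hw := fun x => congrArg (fun φ => φ.hom x) hpo.w
  simp only [CommRingCat.hom_comp, CommRingCat.hom_ofHom, RingHom.coe_comp,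
    Function.comp_apply, AlgHom.toRingHom_eq_coe, RingHom.coe_coe] at hw
  ext x
  · simp [bcMap, hw]
  · simp [bcMap]

end

end Groth.Agent.H40.FG
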