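import Groth.Agent.H40.FG.Integral
import Groth.Agent.H40.FG.PushoutTensor

/-!
# Affine groupoids in algebraic form

`AGrpd K A B E`: rings of functions `A` (objects), `B` (arrows), `E` (composable pairs) of an affine
groupoid, all algebras over a ring `K` of invariant constants, with the two pushout squares
`E = B ⊗_{σ,A,τ} B` and (shear) `E = B ⊗_{σ,A,σ} B`.  This is the part of the structure needed for the
invariance of characteristic polynomials; it is stable under base change `– ⊗[K] K'`.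
-/

set_option autoImplicit false
set_option backward.isDefEq.respectTransparency.types false
universe u

open CategoryTheory CategoryTheory.Limits AlgebraicGeometry Grpd Matrix Polynomial TensorProduct

namespace Groth.Agent.H40.FG

structure AGrpd (K A B E : Type u) [CommRing K] [CommRing A] [CommRing B] [CommRing E]
    [Algebra K A] [Algebra K B] [Algebra K E] where
  σ : A →ₐ[K] B
  τ : A →ₐ[K] B
  ε : B →ₐ[K] A
  p₀ : B →ₐ[K] E
  p₁ : B →ₐ[K] E
  γ : B →ₐ[K] E
  ε_σ : ∀ a, ε (σ a) = a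
  ε_τ : ∀ a, ε (τ a) = a
  po₁ : IsPushout (CommRingCat.ofHom τ.toRingHom) (CommRingCat.ofHom σ.toRingHom)
      (CommRingCat.ofHom p₁.toRingHom) (CommRingCat.ofHom p₀.toRingHom)
  po₂ : IsPushout (CommRingCat.ofHom σ.toRingHom) (CommRingCat.ofHom σ.toRingHom)
      (CommRingCat.ofHom p₁.toRingHom) (CommRingCat.ofHom γ.toRingHom)
  γ_τ : ∀ a, γ (τ a) = p₀ (τ a)

namespace AGrpd

variable {K A B E : Type u} [CommRing K] [CommRing A] [CommRing B] [CommRing E]
    [Algebra K A] [Algebra K B] [Algebra K E] (H : AGrpd K A B E)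

theorem p₁_τ (a : A) : H.p₁ (H.τ a) = H.p₀ (H.σ a) := by
  have := congrArg (fun φ => φ.hom a) H.po₁.w
  simpa using this

theorem p₁_σ (a : A) : H.p₁ (H.σ a) = H.γ (H.σ a) := by
  have := congrArg (fun φ => φ.hom a) H.po₂.w
  simpa using this

theorem τ_injective : Function.Injective H.τ := fun a a' h => by
  rw [← H.ε_τ a, h, H.ε_τ]

theorem σ_injective : Function.Injective H.σ := fun a a' h => by
  rw [← H.ε_σ a, h, H.ε_σ]

theorem exists_dualBasis_p₀ {n : ℕ} (D : DualBasis H.σ.toRingHom n) :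
    ∃ D' : DualBasis H.p₁.toRingHom n, ∀ b, D'.mat (H.p₀ b) = (D.mat b).map H.τ := by
  obtain ⟨D', h1, h2⟩ := DualBasis.exists_baseChange H.σ.toRingHom H.τ.toRingHom H.p₀.toRingHom
    H.p₁.toRingHom H.po₁ D
  exact ⟨D', fun b => DualBasis.mat_baseChange _ _ D D' h1 h2 b⟩

theorem exists_dualBasis_γ {n : ℕ} (D : DualBasis H.σ.toRingHom n) :
    ∃ D' : DualBasis H.p₁.toRingHom n, ∀ b, D'.mat (H.γ b) = (D.mat b).map H.σ := by
  obtain ⟨D', h1, h2⟩ := DualBasis.exists_baseChange H.σ.toRingHom H.σ.toRingHom H.γ.toRingHom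
    H.p₁.toRingHom H.po₂ D
  exact ⟨D', fun b => DualBasis.mat_baseChange _ _ D D' h1 h2 b⟩

/-- the characteristic polynomial of `τ a` (with respect to `σ`) has invariant coefficients. -/
theorem charpoly_map_σ_eq_map_τ {n : ℕ} (D : DualBasis H.σ.toRingHom n) (a : A) :
    (D.mat (H.τ a)).charpoly.map H.σ.toRingHom = (D.mat (H.τ a)).charpoly.map H.τ.toRingHom := by
  obtain ⟨D₁, h₁⟩ := H.exists_dualBasis_p₀ D
  obtain ⟨D₂, h₂⟩ := H.exists_dualBasis_γ D
  rw [← Matrix.charpoly_map, ← Matrix.charpoly_map]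
  have e1 : (D.mat (H.τ a)).map H.σ.toRingHom = D₂.mat (H.γ (H.τ a)) := (h₂ _).symm
  have e2 : (D.mat (H.τ a)).map H.τ.toRingHom = D₁.mat (H.p₀ (H.τ a)) := (h₁ _).symm
  rw [e1, e2, H.γ_τ]
  exact D₂.charpoly_mat_eq D₁ _

theorem coeff_charpoly_invariant {n : ℕ} (D : DualBasis H.σ.toRingHom n) (a : A) (k : ℕ) :
    H.σ ((D.mat (H.τ a)).charpoly.coeff k) = H.τ ((D.mat (H.τ a)).charpoly.coeff k) := by
  have := congrArg (fun p => p.coeff k) (H.charpoly_map_σ_eq_map_τ D a)
  simp only [Polynomial.coeff_map] at this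
  exact this

theorem nm_invariant {n : ℕ} (D : DualBasis H.σ.toRingHom n) (a : A) :
    H.σ (D.nm (H.τ a)) = H.τ (D.nm (H.τ a)) := by
  obtain ⟨D₁, h₁⟩ := H.exists_dualBasis_p₀ D
  obtain ⟨D₂, h₂⟩ := H.exists_dualBasis_γ D
  have e1 : H.σ (D.nm (H.τ a)) = D₂.nm (H.γ (H.τ a)) := by
    unfold DualBasis.nm
    have := h₂ (H.τ a - 1)
    rw [map_sub, map_one] at this
    rw [this]
    change H.σ.toRingHom _ = _
    rw [RingHom.map_det]
    simp [Matrix.map_add]
  have e2 : H.τ (D.nm (H.τ a)) = D₁.nm (H.p₀ (H.τ a)) := by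
    unfold DualBasis.nm
    have := h₁ (H.τ a - 1)
    rw [map_sub, map_one] at this
    rw [this]
    change H.τ.toRingHom _ = _
    rw [RingHom.map_det]
    simp [Matrix.map_add]
  rw [e1, e2, H.γ_τ]
  exact D₂.nm_eq D₁ _

/-- the characteristic polynomial of `τ a` kills `a`. -/
theorem eval_charpoly_eq_zero {n : ℕ} (D : DualBasis H.σ.toRingHom n) (a : A) :
    (D.mat (H.τ a)).charpoly.eval a = 0 := by
  have h := D.eval₂_charpoly (H.τ a)
  have h2 := congrArg H.ε.toRingHom h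
  rw [Polynomial.hom_eval₂, map_zero] at h2
  have e : H.ε.toRingHom.comp H.σ.toRingHom = RingHom.id _ := RingHom.ext H.ε_σ
  have e' : H.ε.toRingHom (H.τ a) = a := H.ε_τ a
  rw [e, e', Polynomial.eval₂_id] at h2
  exact h2

end AGrpd

end Groth.Agent.H40.FG
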