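import Groth.Agent.H40.FG.AGrpd
import Mathlib.RingTheory.Flat.Basic

/-!
# Base change of affine groupoids in algebraic form
-/

set_option autoImplicit false
set_option backward.isDefEq.respectTransparency.types false
universe u

open CategoryTheory CategoryTheory.Limits Matrix Polynomial TensorProduct

namespace Groth.Agent.H40.FG

namespace AGrpd

variable {K A B E : Type u} [CommRing K] [CommRing A] [CommRing B] [CommRing E]
    [Algebra K A] [Algebra K B] [Algebra K E] (H : AGrpd K A B E)
variable (K' : Type u) [CommRing K'] [Algebra K K']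

theorem bcMap_comp_apply {X Y Z : Type u} [CommRing X] [CommRing Y] [CommRing Z] [Algebra K X]
    [Algebra K Y] [Algebra K Z] (f : X →ₐ[K] Y) (g : Y →ₐ[K] Z) (h : X →ₐ[K] Z)
    (hh : ∀ x, g (f x) = h x) (x : X ⊗[K] K') : bcMap K' g (bcMap K' f x) = bcMap K' h x := by
  induction x using TensorProduct.induction_on with
  | zero => simp
  | tmul x r => simp [bcMap, hh]
  | add x y hx hy => simp only [map_add, hx, hy]

theorem bcMap_id_apply {X : Type u} [CommRing X] [Algebra K X] (h : X →ₐ[K] X)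
    (hh : ∀ x, h x = x) (x : X ⊗[K] K') : bcMap K' h x = x := by
  induction x using TensorProduct.induction_on with
  | zero => simp
  | tmul x r => simp [bcMap, hh]
  | add x y hx hy => simp only [map_add, hx, hy]

/-- base change of an affine groupoid along `K → K'`. -/
noncomputable def baseChange : AGrpd K (A ⊗[K] K') (B ⊗[K] K') (E ⊗[K] K') where
  σ := bcMap K' H.σ
  τ := bcMap K' H.τ
  ε := bcMap K' H.ε
  p₀ := bcMap K' H.p₀
  p₁ := bcMap K' H.p₁
  γ := bcMap K' H.γ
  ε_σ := fun a => by
    rw [bcMap_comp_apply K' H.σ H.ε (AlgHom.id K A) (fun x => H.ε_σ x)]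
    exact bcMap_id_apply K' _ (fun _ => rfl) a
  ε_τ := fun a => by
    rw [bcMap_comp_apply K' H.τ H.ε (AlgHom.id K A) (fun x => H.ε_τ x)]
    exact bcMap_id_apply K' _ (fun _ => rfl) a
  po₁ := tensor_isPushout K' _ _ _ _ H.po₁
  po₂ := tensor_isPushout K' _ _ _ _ H.po₂
  γ_τ := fun a => by
    rw [bcMap_comp_apply K' H.τ H.γ (H.p₀.comp H.τ) (fun x => H.γ_τ x),
      bcMap_comp_apply K' H.τ H.p₀ (H.p₀.comp H.τ) (fun x => rfl)]

@[simp] theorem baseChange_σ_tmul (a : A) (r : K') :
    (H.baseChange K').σ (a ⊗ₜ r) = H.σ a ⊗ₜ r := by simp [baseChange, bcMap]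

@[simp] theorem baseChange_τ_tmul (a : A) (r : K') :
    (H.baseChange K').τ (a ⊗ₜ r) = H.τ a ⊗ₜ r := by simp [baseChange, bcMap]

/-- the base change of a dual basis for `σ`. -/
theorem exists_dualBasis_baseChange {n : ℕ} (D : DualBasis H.σ.toRingHom n) :
    ∃ D' : DualBasis (H.baseChange K').σ.toRingHom n, (∀ k, D'.g k = D.g k ⊗ₜ 1) ∧
      ∀ k b r, D'.c k (b ⊗ₜ r) = D.c k b ⊗ₜ r := by
  obtain ⟨D', h1, h2⟩ := DualBasis.exists_baseChange H.σ.toRingHom
    (Algebra.TensorProduct.includeLeftRingHom : A →+* A ⊗[K] K')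
    (Algebra.TensorProduct.includeLeftRingHom : B →+* B ⊗[K] K')
    (H.baseChange K').σ.toRingHom (isPushout_bcMap K' H.σ).flip D
  refine ⟨D', h1, fun k b r => ?_⟩
  have e : (b ⊗ₜ[K] r : B ⊗[K] K') =
      (H.baseChange K').σ.toRingHom ((1 : A) ⊗ₜ r) *
        (Algebra.TensorProduct.includeLeftRingHom : B →+* B ⊗[K] K') b := by
    simp
  rw [e, D'.c_smul, h2]
  simp

theorem mat_baseChange_tmul {n : ℕ} (D : DualBasis H.σ.toRingHom n)
    (D' : DualBasis (H.baseChange K').σ.toRingHom n) (h1 : ∀ k, D'.g k = D.g k ⊗ₜ 1)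
    (h2 : ∀ k b r, D'.c k (b ⊗ₜ r) = D.c k b ⊗ₜ r) (b : B) (r : K') (j k : Fin n) :
    D'.mat (b ⊗ₜ r) j k = D.mat b j k ⊗ₜ r := by
  rw [DualBasis.mat_apply, DualBasis.mat_apply, h1]
  simp [h2]

section Flat

variable [Module.Flat K K']

/-- for flat `K'`, the invariants of the base change are the base change of the invariants. -/
theorem baseChange_invariant_mem_range
    (hex : ∀ a, H.σ a = H.τ a → a ∈ Set.range (algebraMap K A)) (f : A ⊗[K] K')
    (hf : (H.baseChange K').σ f = (H.baseChange K').τ f) :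
    f ∈ Set.range (Algebra.TensorProduct.includeRight : K' →ₐ[K] A ⊗[K] K') := by
  let φ : K →ₗ[K] A := Algebra.linearMap K A
  let ψ : A →ₗ[K] B := H.σ.toLinearMap - H.τ.toLinearMap
  have hexact : Function.Exact φ ψ := by
    intro a
    constructor
    · intro h
      have : H.σ a = H.τ a := by
        have : H.σ a - H.τ a = 0 := h
        exact sub_eq_zero.mp this
      exact hex a this
    · rintro ⟨c, rfl⟩
      change H.σ (algebraMap K A c) - H.τ (algebraMap K A c) = 0
      rw [AlgHom.commutes, AlgHom.commutes, sub_self]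
  have hex' := Module.Flat.rTensor_exact K' hexact
  have hψ : ∀ x : A ⊗[K] K', (ψ.rTensor K') x =
      (H.baseChange K').σ x - (H.baseChange K').τ x := by
    intro x
    induction x using TensorProduct.induction_on with
    | zero => simp
    | tmul a r =>
      simp only [LinearMap.rTensor_tmul, baseChange_σ_tmul, baseChange_τ_tmul]
      change (H.σ a - H.τ a) ⊗ₜ[K] r = _
      rw [TensorProduct.sub_tmul]
    | add x y hx hy => rw [map_add, hx, hy, map_add, map_add]; abel
  have h0 : (ψ.rTensor K') f = 0 := by rw [hψ, hf, sub_self]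
  obtain ⟨z, hz⟩ := (hex' f).mp h0
  refine ⟨TensorProduct.lid K K' z, ?_⟩
  rw [← hz]
  clear hz
  induction z using TensorProduct.induction_on with
  | zero => simp
  | tmul c r =>
    simp only [TensorProduct.lid_tmul, LinearMap.rTensor_tmul, Algebra.TensorProduct.includeRight_apply]
    change (1 : A) ⊗ₜ[K] (c • r) = (algebraMap K A c) ⊗ₜ[K] r
    rw [TensorProduct.tmul_smul, TensorProduct.smul_tmul', Algebra.algebraMap_eq_smul_one]
  | add x y hx hy => simp only [map_add, hx, hy]

end Flat

end AGrpd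

end Groth.Agent.H40.FG
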