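import Groth.Agent.H40.FG.AGrpdBC
import Groth.Agent.H40.FG.BasisInv

/-!
# The algebraic groupoid of an affine groupoid scheme
-/

set_option autoImplicit false
set_option backward.isDefEq.respectTransparency.types false
universe u

open CategoryTheory CategoryTheory.Limits AlgebraicGeometry Grpd Matrix Polynomial TensorProduct

namespace Groth.Agent.H40.FG

variable {S : Scheme.{u}} (G : GroupoidScheme S) [IsAffine G.U] [IsAffine G.R]

/-- `Γ(R)` as an algebra over the invariants through `s♯`. -/
noncomputable abbrev algB : Algebra G.invariants Γ(G.R, ⊤) :=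
  ((σ G).comp G.invariants.subtype).toAlgebra

/-- `Γ(R ×_{s,t} R)` as an algebra over the invariants. -/
noncomputable abbrev algE : Algebra G.invariants Γ(pullback G.s G.t, ⊤) :=
  ((pullback.snd G.s G.t).appTop.hom.comp ((σ G).comp G.invariants.subtype)).toAlgebra

/-- the algebraic groupoid of an affine groupoid scheme, over its ring of invariants. -/
noncomputable def aGrpd :
    @AGrpd G.invariants Γ(G.U, ⊤) Γ(G.R, ⊤) Γ(pullback G.s G.t, ⊤) _ _ _ _ _ (algB G) (algE G) :=
  letI := algB G
  letI := algE G
  { σ := { toRingHom := σ G, commutes' := fun c => rfl }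
    τ := { toRingHom := τ G, commutes' := fun c => c.2.symm }
    ε := { toRingHom := ε G, commutes' := fun c => ε_σ G c }
    p₀ := { toRingHom := (pullback.fst G.s G.t).appTop.hom
            commutes' := fun c => by
              change (pullback.fst G.s G.t).appTop.hom (σ G c) =
                (pullback.snd G.s G.t).appTop.hom (σ G c)
              rw [fst_appTop_σ]
              exact congrArg _ c.2.symm }
    p₁ := { toRingHom := (pullback.snd G.s G.t).appTop.hom, commutes' := fun c => rfl }
    γ := { toRingHom := G.c.appTop.hom
           commutes' := fun c => c_appTop_σ G c }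
    ε_σ := ε_σ G
    ε_τ := ε_τ G
    po₁ := isPushout_appTop_of_isPullback (IsPullback.of_hasPullback G.s G.t).flip
    po₂ := isPushout_appTop_of_isPullback (isPullback_c_snd G).flip
    γ_τ := c_appTop_τ G }

end Groth.Agent.H40.FG
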