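import Groth.Agent.H40.FG.BasisInv

/-!
# The basis `x_i` of `Γ(U)` over the invariants and the isomorphism `Γ(U) ⊗_C Γ(U) ≃ Γ(R)`
-/

set_option autoImplicit false
set_option backward.isDefEq.respectTransparency.types false
universe u

open CategoryTheory CategoryTheory.Limits AlgebraicGeometry Grpd TensorProduct

namespace Groth.Agent.H40.FG

variable {S : Scheme.{u}} (G : GroupoidScheme S) [IsAffine G.U] [IsAffine G.R]

section

variable {I : Type u} (x : I → Γ(G.U, ⊤))
  (b : letI := (σ G).toAlgebra; Module.Basis I Γ(G.U, ⊤) Γ(G.R, ⊤))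
  (hb : ∀ i, b i = τ G (x i))

include hb

theorem span_invariants_eq_top :
    ⊤ ≤ Submodule.span G.invariants (Set.range x) := by
  letI := (σ G).toAlgebra
  intro a _
  rw [eq_sum_repr G x b hb a]
  refine Submodule.sum_mem _ fun i _ => ?_
  have hmem := repr_τ_mem_invariants G x b hb a i
  have : (b.repr (τ G a) i) * x i = (⟨_, hmem⟩ : G.invariants) • x i := rfl
  change (b.repr (τ G a) i) * x i ∈ _
  rw [this]
  exact Submodule.smul_mem _ _ (Submodule.subset_span ⟨i, rfl⟩)

theorem τ_linearCombination (l : I →₀ G.invariants) :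
    τ G (Finsupp.linearCombination G.invariants x l) =
      (l.mapRange G.invariants.subtype (map_zero _)).sum fun i c => σ G c * b i := by
  rw [Finsupp.linearCombination_apply, map_finsuppSum,
    Finsupp.sum_mapRange_index (fun i => by simp)]
  refine Finsupp.sum_congr fun i _ => ?_
  have h1 : (l i) • x i = (l i : Γ(G.U, ⊤)) * x i := rfl
  rw [h1, map_mul, hb]
  congr 1
  exact ((mem_invariants_iff G _).mp (l i).2).symm

theorem sum_eq_repr_symm (v : I →₀ Γ(G.U, ⊤)) :
    (v.sum fun i c => σ G c * b i) = (letI := (σ G).toAlgebra; b.repr.symm v) := by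
  letI := (σ G).toAlgebra
  rw [Module.Basis.repr_symm_apply, Finsupp.linearCombination_apply]
  refine Finsupp.sum_congr fun i _ => ?_
  rw [Algebra.smul_def]
  rfl

theorem linearIndependent_invariants : LinearIndependent G.invariants x := by
  letI := (σ G).toAlgebra
  rw [linearIndependent_iff]
  intro l hl
  have h1 := τ_linearCombination G x b hb l
  rw [hl, map_zero, sum_eq_repr_symm G x b hb] at h1
  have h2 : l.mapRange G.invariants.subtype (map_zero _) = 0 := by
    apply b.repr.symm.injective
    rw [← h1, map_zero]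
  ext i
  have h3 := DFunLike.congr_fun h2 i
  rw [Finsupp.mapRange_apply, Finsupp.zero_apply] at h3
  exact congrArg _ (Subtype.ext h3)

/-- the basis `x_i` of `Γ(U)` over the invariants. -/
noncomputable def basisInvariants : Module.Basis I G.invariants Γ(G.U, ⊤) :=
  Module.Basis.mk (linearIndependent_invariants G x b hb) (span_invariants_eq_top G x b hb)

theorem basisInvariants_apply (i : I) : basisInvariants G x b hb i = x i :=
  Module.Basis.mk_apply _ _ i

/-- `a ⊗ a' ↦ t♯ a * s♯ a'` is bijective. -/
theorem tensor_bijective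
    (φ : letI := ((σ G).comp G.invariants.subtype).toAlgebra
      TensorProduct G.invariants Γ(G.U, ⊤) Γ(G.U, ⊤) →ₗ[G.invariants] Γ(G.R, ⊤))
    (hφ : ∀ a a' : Γ(G.U, ⊤), φ (a ⊗ₜ[G.invariants] a') = τ G a * σ G a') :
    Function.Bijective φ := by
  classical
  letI := (σ G).toAlgebra
  letI : Algebra G.invariants Γ(G.R, ⊤) := ((σ G).comp G.invariants.subtype).toAlgebra
  let bC := basisInvariants G x b hb
  let E := TensorProduct.equivFinsuppOfBasisLeft (N := Γ(G.U, ⊤)) bC
  let ψ : (I →₀ Γ(G.U, ⊤)) → Γ(G.R, ⊤) := fun v => v.sum fun i c => σ G c * b i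
  have hψ : ∀ v, ψ v = b.repr.symm v := fun v => sum_eq_repr_symm G x b hb v
  have hψadd : ∀ v w, ψ (v + w) = ψ v + ψ w := fun v w => by
    rw [hψ, hψ, hψ, map_add]
  have key : ∀ z, φ z = ψ (E z) := by
    intro z
    induction z using TensorProduct.induction_on with
    | zero =>
      rw [map_zero, map_zero]
      exact (Finsupp.sum_zero_index).symm
    | tmul a a' =>
      rw [hφ]
      change _ = ψ (TensorProduct.equivFinsuppOfBasisLeft bC (a ⊗ₜ a'))
      rw [TensorProduct.equivFinsuppOfBasisLeft_apply_tmul]
      change _ = Finsupp.sum _ _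
      rw [Finsupp.sum_mapRange_index (fun i => by simp)]
      have h1 := τ_linearCombination G x b hb (bC.repr a)
      have hx : ∀ i, bC i = x i := basisInvariants_apply G x b hb
      have hx' : ⇑bC = x := funext hx
      have h0 : Finsupp.linearCombination G.invariants x (bC.repr a) = a := by
        rw [← hx']
        exact bC.linearCombination_repr a
      rw [h0] at h1
      rw [h1, Finsupp.sum_mapRange_index (h := fun i c => σ G c * b i) (fun i => by simp),
        Finsupp.sum_mul]
      refine Finsupp.sum_congr fun i _ => ?_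
      have h2 : (bC.repr a i) • a' = ((bC.repr a i : G.invariants) : Γ(G.U, ⊤)) * a' := rfl
      rw [h2, map_mul]
      change σ G (((bC.repr a) i : G.invariants) : Γ(G.U, ⊤)) * b i * σ G a' = _
      ring
    | add z w hz hw =>
      rw [map_add, map_add, hψadd, hz, hw]
  constructor
  · intro z z' h
    rw [key, key, hψ, hψ] at h
    exact E.injective (b.repr.symm.injective h)
  · intro y
    refine ⟨E.symm (b.repr y), ?_⟩
    rw [key, LinearEquiv.apply_symm_apply, hψ, LinearEquiv.symm_apply_apply]

end

end Groth.Agent.H40.FG
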