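import Groth.Agent.H40.FG.Descent

/-!
# The conclusion "`A` is flat over `K` and `A ⊗[K] A ≃ B`" descends along jointly faithfully flat
families
-/

set_option autoImplicit false
set_option backward.isDefEq.respectTransparency.types false
universe u w

open TensorProduct

namespace Groth.Agent.H40.FG

namespace AGrpd

variable {K A B E : Type u} [CommRing K] [CommRing A] [CommRing B] [CommRing E]
    [Algebra K A] [Algebra K B] [Algebra K E] (H : AGrpd K A B E)

/-- the conclusion: `A` is flat over the invariants and `(τ, σ) : A ⊗ A → B` is bijective. -/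
structure Concl : Prop where
  flat : Module.Flat K A
  bij : Function.Bijective (Algebra.TensorProduct.productMap H.τ H.σ)

variable {H}

theorem Hyp.productMap_surjective (h : H.Hyp) :
    Function.Surjective (Algebra.TensorProduct.productMap H.τ H.σ) := by
  intro b
  have hb := h.gen b
  induction hb using AddSubmonoid.closure_induction with
  | mem y hy =>
    obtain ⟨a, a', rfl⟩ := hy
    exact ⟨a' ⊗ₜ a, by simp [mul_comm]⟩
  | zero => exact ⟨0, map_zero _⟩
  | add y z _ _ hy hz =>
    obtain ⟨y', hy'⟩ := hy
    obtain ⟨z', hz'⟩ := hz
    exact ⟨y' + z', by rw [map_add, hy', hz']⟩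

variable (H)

theorem lTensor_productMap (L : Type u) [CommRing L] [Algebra K L] (z : L ⊗[K] (A ⊗[K] A)) :
    Algebra.TensorProduct.productMap (H.lbc L).τ (H.lbc L).σ
        (TensorProduct.AlgebraTensorModule.distribBaseChange K L A A z) =
      (Algebra.TensorProduct.productMap H.τ H.σ).toLinearMap.lTensor L z := by
  induction z using TensorProduct.induction_on with
  | zero => simp
  | tmul l w =>
    induction w using TensorProduct.induction_on with
    | zero => simp
    | tmul a a' =>
      rw [TensorProduct.AlgebraTensorModule.distribBaseChange_tmul,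
        Algebra.TensorProduct.productMap_apply_tmul, lbc_τ_tmul, lbc_σ_tmul,
        LinearMap.lTensor_tmul, AlgHom.toLinearMap_apply,
        Algebra.TensorProduct.productMap_apply_tmul, Algebra.TensorProduct.tmul_mul_tmul,
        mul_one]
    | add x y hx hy =>
      rw [TensorProduct.tmul_add, map_add, map_add, hx, hy, map_add]
  | add x y hx hy => rw [map_add, map_add, hx, hy, map_add]

variable {H}

/-- descent of the conclusion along a jointly faithfully flat family. -/
theorem Concl.descent {ι : Type w} (L : ι → Type u) [∀ i, CommRing (L i)]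
    [∀ i, Algebra K (L i)] [∀ i, Module.Flat K (L i)]
    (hL : ∀ q : Ideal K, q.IsMaximal → ∃ i, q.map (algebraMap K (L i)) ≠ ⊤)
    (h : H.Hyp) (hc : ∀ i, (H.lbc (L i)).Concl) : H.Concl where
  flat := flat_of_lTensor L hL fun i => (hc i).flat
  bij := by
    refine ⟨?_, h.productMap_surjective⟩
    refine injective_of_lTensor L hL (Algebra.TensorProduct.productMap H.τ H.σ).toLinearMap
      fun i => ?_
    have : ⇑((Algebra.TensorProduct.productMap H.τ H.σ).toLinearMap.lTensor (L i)) =
        ⇑(Algebra.TensorProduct.productMap (H.lbc (L i)).τ (H.lbc (L i)).σ) ∘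
          ⇑(TensorProduct.AlgebraTensorModule.distribBaseChange K (L i) A A) :=
      funext fun z => (H.lTensor_productMap (L i) z).symm
    rw [this]
    exact (hc i).bij.1.comp (LinearEquiv.injective _)

end AGrpd

end Groth.Agent.H40.FG
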