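import Groth.Agent.H40.FG.LBC
import Mathlib.LinearAlgebra.TensorProduct.Quotient
import Mathlib.RingTheory.Ideal.Maximal

/-!
# Joint faithfully flat descent along a family of flat algebras hitting all maximal ideals
-/

set_option autoImplicit false
set_option backward.isDefEq.respectTransparency.types false
universe u v w

open TensorProduct

namespace Groth.Agent.H40.FG

section JD

variable {K : Type u} [CommRing K] {ι : Type w} (L : ι → Type u) [∀ i, CommRing (L i)]
  [∀ i, Algebra K (L i)] [∀ i, Module.Flat K (L i)]
  (hL : ∀ q : Ideal K, q.IsMaximal → ∃ i, q.map (algebraMap K (L i)) ≠ ⊤)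

include hL

/-- a module which dies after tensoring with every `L i` is zero. -/
theorem subsingleton_of_tensor {N : Type v} [AddCommGroup N] [Module K N]
    (h : ∀ i, Subsingleton (L i ⊗[K] N)) : Subsingleton N := by
  by_contra hN
  rw [not_subsingleton_iff_nontrivial] at hN
  obtain ⟨x, hx⟩ := exists_ne (0 : N)
  let g : K →ₗ[K] N := LinearMap.toSpanSingleton K N x
  have hker : LinearMap.ker g ≠ ⊤ := by
    intro htop
    have : (1 : K) ∈ LinearMap.ker g := htop ▸ Submodule.mem_top
    rw [LinearMap.mem_ker, LinearMap.toSpanSingleton_apply, one_smul] at this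
    exact hx this
  obtain ⟨q, hq, hle⟩ := Ideal.exists_le_maximal (LinearMap.ker g) hker
  obtain ⟨i, hi⟩ := hL q hq
  apply hi
  let gbar : (K ⧸ LinearMap.ker g) →ₗ[K] N := (LinearMap.ker g).liftQ g le_rfl
  have hgbar : Function.Injective gbar := by
    rw [← LinearMap.ker_eq_bot]
    exact Submodule.ker_liftQ_eq_bot _ _ _ le_rfl
  have hinj := Module.Flat.lTensor_preserves_injective_linearMap (M := L i) gbar hgbar
  haveI := h i
  have hsub : Subsingleton (L i ⊗[K] (K ⧸ LinearMap.ker g)) := hinj.subsingleton
  have h0 : TensorProduct.tensorQuotEquivQuotSMul (L i) (LinearMap.ker g)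
      ((1 : L i) ⊗ₜ[K] (1 : K ⧸ LinearMap.ker g)) = 0 := by
    rw [Subsingleton.elim ((1 : L i) ⊗ₜ[K] (1 : K ⧸ LinearMap.ker g)) 0, map_zero]
  have h1 : TensorProduct.tensorQuotEquivQuotSMul (L i) (LinearMap.ker g)
      ((1 : L i) ⊗ₜ[K] (1 : K ⧸ LinearMap.ker g)) = Submodule.Quotient.mk 1 := by
    simp [TensorProduct.tensorQuotEquivQuotSMul]
  rw [h1, Submodule.Quotient.mk_eq_zero] at h0
  have h2 : (1 : L i) ∈ Ideal.map (algebraMap K (L i)) (LinearMap.ker g) := by
    have := Ideal.smul_top_eq_map (R := K) (S := L i) (LinearMap.ker g)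
    rw [this] at h0
    exact h0
  have h3 : Ideal.map (algebraMap K (L i)) (LinearMap.ker g) ≤ q.map (algebraMap K (L i)) :=
    Ideal.map_mono hle
  exact (Ideal.eq_top_iff_one _).mpr (h3 h2)

/-- injectivity can be tested after tensoring with every `L i`. -/
theorem injective_of_lTensor {N : Type v} {N' : Type v} [AddCommGroup N] [Module K N]
    [AddCommGroup N'] [Module K N'] (f : N →ₗ[K] N')
    (h : ∀ i, Function.Injective (f.lTensor (L i))) : Function.Injective f := by
  rw [← LinearMap.ker_eq_bot]
  have hsub : Subsingleton (LinearMap.ker f) := by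
    refine subsingleton_of_tensor L hL fun i => ?_
    have h1 : Function.Injective ((LinearMap.ker f).subtype.lTensor (L i)) :=
      Module.Flat.lTensor_preserves_injective_linearMap _ (Submodule.injective_subtype _)
    have h2 : (f.lTensor (L i)).comp ((LinearMap.ker f).subtype.lTensor (L i)) = 0 := by
      rw [← LinearMap.lTensor_comp]
      have : f.comp (LinearMap.ker f).subtype = 0 := by
        ext z
        exact z.2
      rw [this, LinearMap.lTensor_zero]
    refine ⟨fun a b => ?_⟩
    apply h1
    apply h i
    have ha := LinearMap.congr_fun h2 a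
    have hb := LinearMap.congr_fun h2 b
    rw [LinearMap.comp_apply] at ha hb
    rw [ha, hb]
    rfl
  exact (Submodule.eq_bot_iff _).mpr fun z hz => by
    have := Subsingleton.elim (⟨z, hz⟩ : LinearMap.ker f) 0
    exact congrArg Subtype.val this

/-- flatness can be tested after base change to every `L i`. -/
theorem flat_of_lTensor {M : Type u} [AddCommGroup M] [Module K M]
    (h : ∀ i, Module.Flat (L i) (L i ⊗[K] M)) : Module.Flat K M := by
  rw [Module.Flat.iff_lTensor_preserves_injective_linearMap]
  intro N P _ _ _ _ f hf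
  refine injective_of_lTensor L hL _ fun i => ?_
  have := h i
  have hflat : Module.Flat K (L i ⊗[K] M) := Module.Flat.trans K (L i) _
  have : LinearMap.lTensor (L i) (LinearMap.lTensor M f) =
      (TensorProduct.assoc _ _ _ _).toLinearMap ∘ₗ LinearMap.lTensor (L i ⊗[K] M) f ∘ₗ
        (TensorProduct.assoc _ _ _ _).symm.toLinearMap := by
    ext
    simp
  rw [this]
  simp only [LinearMap.coe_comp, LinearEquiv.coe_coe, EmbeddingLike.comp_injective,
    EquivLike.injective_comp]
  exact Module.Flat.lTensor_preserves_injective_linearMap f hf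

end JD

end Groth.Agent.H40.FG
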