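import Mathlib.LinearAlgebra.Matrix.Charpoly.Basic
import Mathlib.LinearAlgebra.Matrix.Charpoly.Coeff
import Mathlib.LinearAlgebra.Matrix.SchurComplement
import Mathlib.RingTheory.Finiteness.Projective
import Mathlib.RingTheory.IsTensorProduct
import Mathlib.RingTheory.Polynomial.Basic

/-!
# Dual bases (projective coordinate systems) of a ring map, their matrices and characteristic
polynomials

For a ring map `f : A →+* B`, a *dual basis* of size `n` consists of generators `g k : B` and
`f`-semilinear coordinate functions `c k : B → A` with `b = ∑ k, f (c k b) * g k`.  Such a thing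
exists exactly when `B` is a finite projective `A`-module.  Multiplication by `b` is then
represented by the matrix `mat b = (c j (b * g k))`; the map `b ↦ mat b` is additive,
multiplicative and semilinear, its characteristic polynomial kills `b` (Cayley–Hamilton) and does
not depend on the dual basis (of a given size).
-/

set_option autoImplicit false
universe u v

open Matrix Polynomial

namespace Groth.Agent.H40.FG

variable {A : Type u} {B : Type v} [CommRing A] [CommRing B]

/-- a projective coordinate system of `B` over `A` (through `f`). -/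
structure DualBasis (f : A →+* B) (n : ℕ) where
  g : Fin n → B
  c : Fin n → B → A
  c_add : ∀ k b b', c k (b + b') = c k b + c k b'
  c_smul : ∀ k a b, c k (f a * b) = a * c k b
  sum_eq : ∀ b, ∑ k, f (c k b) * g k = b

namespace DualBasis

variable {f : A →+* B} {n : ℕ} (D : DualBasis f n)

theorem c_zero (k : Fin n) : D.c k 0 = 0 := by
  have h := D.c_add k 0 0
  rw [add_zero] at h
  exact (add_eq_left.mp h.symm)

theorem c_sum {ι : Type*} (s : Finset ι) (k : Fin n) (x : ι → B) :
    D.c k (∑ i ∈ s, x i) = ∑ i ∈ s, D.c k (x i) := by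
  classical
  induction s using Finset.induction_on with
  | empty => simp [D.c_zero]
  | insert i s hi ih => rw [Finset.sum_insert hi, Finset.sum_insert hi, D.c_add, ih]

theorem c_neg (k : Fin n) (b : B) : D.c k (-b) = -D.c k b := by
  have h := D.c_add k b (-b)
  rw [add_neg_cancel, D.c_zero] at h
  exact (eq_neg_of_add_eq_zero_right h.symm)

theorem c_sub (k : Fin n) (b b' : B) : D.c k (b - b') = D.c k b - D.c k b' := by
  rw [sub_eq_add_neg, D.c_add, D.c_neg, sub_eq_add_neg]

/-- the key computation: `c j (b * x) = ∑ k, c j (b * g k) * c k x`. -/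
theorem c_mul (j : Fin n) (b x : B) : D.c j (b * x) = ∑ k, D.c j (b * D.g k) * D.c k x := by
  conv_lhs => rw [← D.sum_eq x, Finset.mul_sum, D.c_sum]
  refine Finset.sum_congr rfl fun k _ => ?_
  rw [show b * (f (D.c k x) * D.g k) = f (D.c k x) * (b * D.g k) by ring, D.c_smul, mul_comm]

/-- the matrix of multiplication by `b`. -/
def mat (b : B) : Matrix (Fin n) (Fin n) A := fun j k => D.c j (b * D.g k)

theorem mat_apply (b : B) (j k : Fin n) : D.mat b j k = D.c j (b * D.g k) := rfl

theorem mat_add (b b' : B) : D.mat (b + b') = D.mat b + D.mat b' := by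
  ext j k
  simp only [mat_apply, Matrix.add_apply, add_mul, D.c_add]

theorem mat_sub (b b' : B) : D.mat (b - b') = D.mat b - D.mat b' := by
  ext j k
  simp only [mat_apply, Matrix.sub_apply, sub_mul, D.c_sub]

theorem mat_smul (a : A) (b : B) : D.mat (f a * b) = a • D.mat b := by
  ext j k
  simp only [mat_apply, Matrix.smul_apply, smul_eq_mul, mul_assoc, D.c_smul]

theorem mat_mul (b b' : B) : D.mat (b * b') = D.mat b * D.mat b' := by
  ext j l
  simp only [mat_apply, Matrix.mul_apply]
  rw [mul_assoc, D.c_mul]

/-- the coordinate vector of `x`. -/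
def vec (x : B) : Fin n → A := fun k => D.c k x

theorem mat_mulVec (b x : B) : (D.mat b).mulVec (D.vec x) = D.vec (b * x) := by
  ext j
  simp only [Matrix.mulVec, dotProduct, mat_apply, vec]
  rw [D.c_mul]

theorem vec_add (x y : B) : D.vec (x + y) = D.vec x + D.vec y := by
  ext k; simp only [vec, D.c_add, Pi.add_apply]

theorem vec_smul (a : A) (x : B) : D.vec (f a * x) = a • D.vec x := by
  ext k; simp only [vec, D.c_smul, Pi.smul_apply, smul_eq_mul]

theorem vec_injective : Function.Injective D.vec := by
  intro x y h
  rw [← D.sum_eq x, ← D.sum_eq y]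
  refine Finset.sum_congr rfl fun k _ => ?_
  have := congrFun h k
  simp only [vec] at this
  rw [this]

theorem vec_zero : D.vec 0 = 0 := by
  ext k; simp only [vec, D.c_zero, Pi.zero_apply]

/-- polynomials in the matrix of `b` act on coordinate vectors as polynomials in `b`. -/
theorem aeval_mat_mulVec (b x : B) (q : A[X]) :
    (aeval (D.mat b) q).mulVec (D.vec x) = D.vec (eval₂ f b q * x) := by
  induction q using Polynomial.induction_on' with
  | add p q hp hq =>
    rw [map_add, Matrix.add_mulVec, hp, hq, eval₂_add, add_mul, D.vec_add]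
  | monomial m a =>
    rw [aeval_monomial, eval₂_monomial, ← Algebra.smul_def, Matrix.smul_mulVec, mul_assoc,
      D.vec_smul]
    congr 1
    induction m generalizing x with
    | zero => simp
    | succ m ih =>
      rw [pow_succ, ← Matrix.mulVec_mulVec, D.mat_mulVec, ih, pow_succ, mul_assoc]

/-- **Cayley–Hamilton** for a dual basis: `b` is a root of the characteristic polynomial of its
matrix. -/
theorem eval₂_charpoly (b : B) : eval₂ f b (D.mat b).charpoly = 0 := by
  have h := D.aeval_mat_mulVec b 1 (D.mat b).charpoly
  rw [Matrix.aeval_self_charpoly, Matrix.zero_mulVec, mul_one] at h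
  exact D.vec_injective (h.symm.trans D.vec_zero.symm)

/-- independence of the dual basis: the characteristic polynomial of the matrix of `b`. -/
theorem charpoly_mat_eq (D' : DualBasis f n) (b : B) :
    (D.mat b).charpoly = (D'.mat b).charpoly := by
  let X : Matrix (Fin n) (Fin n) A := fun j k => D.c j (b * D'.g k)
  let Y : Matrix (Fin n) (Fin n) A := fun k l => D'.c k (D.g l)
  have h1 : D.mat b = X * Y := by
    ext j l
    simp only [mat_apply, Matrix.mul_apply, X, Y]
    conv_lhs => rw [← D'.sum_eq (D.g l), Finset.mul_sum, D.c_sum]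
    refine Finset.sum_congr rfl fun k _ => ?_
    rw [show b * (f (D'.c k (D.g l)) * D'.g k) = f (D'.c k (D.g l)) * (b * D'.g k) by ring,
      D.c_smul, mul_comm]
  have h2 : D'.mat b = Y * X := by
    ext k l
    simp only [mat_apply, Matrix.mul_apply, X, Y]
    conv_lhs => rw [← D.sum_eq (b * D'.g l), D'.c_sum]
    refine Finset.sum_congr rfl fun j _ => ?_
    rw [D'.c_smul, mul_comm]
  rw [h1, h2, Matrix.charpoly_mul_comm]

theorem det_mat_eq (D' : DualBasis f n) (b : B) : (D.mat b).det = (D'.mat b).det := by
  rw [Matrix.det_eq_sign_charpoly_coeff, Matrix.det_eq_sign_charpoly_coeff, D.charpoly_mat_eq D']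

/-- the norm attached to a dual basis: the determinant of multiplication by `b` on `B`, padded
by the identity on a complement. -/
def nm (b : B) : A := (1 + D.mat (b - 1)).det

theorem nm_eq (D' : DualBasis f n) (b : B) : D.nm b = D'.nm b := by
  let X : Matrix (Fin n) (Fin n) A := fun j k => D.c j ((b - 1) * D'.g k)
  let Y : Matrix (Fin n) (Fin n) A := fun k l => D'.c k (D.g l)
  have h1 : D.mat (b - 1) = X * Y := by
    ext j l
    simp only [mat_apply, Matrix.mul_apply, X, Y]
    conv_lhs => rw [← D'.sum_eq (D.g l), Finset.mul_sum, D.c_sum]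
    refine Finset.sum_congr rfl fun k _ => ?_
    rw [show (b - 1) * (f (D'.c k (D.g l)) * D'.g k) =
      f (D'.c k (D.g l)) * ((b - 1) * D'.g k) by ring, D.c_smul, mul_comm]
  have h2 : D'.mat (b - 1) = Y * X := by
    ext k l
    simp only [mat_apply, Matrix.mul_apply, X, Y]
    conv_lhs => rw [← D.sum_eq ((b - 1) * D'.g l), D'.c_sum]
    refine Finset.sum_congr rfl fun j _ => ?_
    rw [D'.c_smul, mul_comm]
  unfold nm
  rw [h1, h2, Matrix.det_one_add_mul_comm]

theorem nm_mul (b b' : B) : D.nm (b * b') = D.nm b * D.nm b' := by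
  unfold nm
  rw [← Matrix.det_mul]
  congr 1
  have e : (b * b' - 1 : B) = (b - 1) * (b' - 1) + (b - 1) + (b' - 1) := by ring
  rw [e, D.mat_add, D.mat_add, D.mat_mul]
  simp only [Matrix.add_mul, Matrix.mul_add, Matrix.one_mul, Matrix.mul_one]
  abel

theorem nm_one : D.nm 1 = 1 := by
  unfold nm
  rw [sub_self]
  have : D.mat 0 = 0 := by
    ext j k
    simp only [mat_apply, zero_mul, D.c_zero, Matrix.zero_apply]
  rw [this, add_zero, Matrix.det_one]

end DualBasis

end Groth.Agent.H40.FG
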