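import Groth.Agent.H40.FG.DualBasis
import Mathlib.Algebra.Category.Ring.Constructions
import Mathlib.RingTheory.RingHom.Finite

/-!
# Existence and base change of dual bases
-/

set_option autoImplicit false
universe u

open Matrix Polynomial CategoryTheory

namespace Groth.Agent.H40.FG

/-- a finite projective ring map has a dual basis. -/
theorem exists_dualBasis {A B : Type u} [CommRing A] [CommRing B] (f : A →+* B)
    (hfin : letI := f.toAlgebra; Module.Finite A B)
    (hproj : letI := f.toAlgebra; Module.Projective A B) :
    ∃ n : ℕ, Nonempty (DualBasis f n) := by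
  letI := f.toAlgebra
  haveI := hfin
  haveI := hproj
  obtain ⟨n, π, ι, -, -, h⟩ := Module.Finite.exists_comp_eq_id_of_projective A B
  refine ⟨n, ⟨{
    g := fun k => π (Pi.single k 1)
    c := fun k b => ι b k
    c_add := fun k b b' => by rw [map_add, Pi.add_apply]
    c_smul := fun k a b => by
      have : f a * b = a • b := (Algebra.smul_def a b).symm
      rw [this, map_smul, Pi.smul_apply, smul_eq_mul]
    sum_eq := fun b => by
      have h1 : ∀ k, f (ι b k) * π (Pi.single k 1) = (ι b k) • π (Pi.single k 1) :=
        fun k => (Algebra.smul_def _ _).symm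
      simp only [h1]
      have h2 : ι b = ∑ k, (ι b k) • (Pi.single k 1 : Fin n → A) := by
        ext j
        simp [Finset.sum_apply, Pi.single_apply]
      have h3 : π (ι b) = b := LinearMap.congr_fun h b
      conv_rhs => rw [← h3, h2, map_sum]
      simp only [map_smul] }⟩⟩

/-- base change of a dual basis along a pushout square of commutative rings. -/
theorem DualBasis.exists_baseChange {A B A' B' : Type u} [CommRing A] [CommRing B] [CommRing A']
    [CommRing B'] (f : A →+* B) (g : A →+* A') (g' : B →+* B') (f' : A' →+* B')
    (hpo : IsPushout (CommRingCat.ofHom g) (CommRingCat.ofHom f) (CommRingCat.ofHom f')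
      (CommRingCat.ofHom g')) {n : ℕ} (D : DualBasis f n) :
    ∃ D' : DualBasis f' n, (∀ k, D'.g k = g' (D.g k)) ∧
      (∀ k b, D'.c k (g' b) = g (D.c k b)) := by
  have hw : f'.comp g = g'.comp f := by
    have := congrArg CommRingCat.Hom.hom hpo.w
    simpa only [CommRingCat.hom_comp, CommRingCat.hom_ofHom] using this
  letI := g.toAlgebra
  letI := f.toAlgebra
  letI := f'.toAlgebra
  letI := g'.toAlgebra
  letI : Algebra A B' := (f'.comp g).toAlgebra
  haveI : IsScalarTower A A' B' := IsScalarTower.of_algebraMap_eq (fun _ => rfl)
  haveI : IsScalarTower A B B' := IsScalarTower.of_algebraMap_eq (fun x => by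
    change (f'.comp g) x = (g'.comp f) x
    rw [hw])
  have hP : Algebra.IsPushout A A' B B' := CommRingCat.isPushout_iff_isPushout.mp hpo
  have hbc := hP.out
  let ψ : Fin n → (B →ₗ[A] A') := fun k =>
    { toFun := fun b => g (D.c k b)
      map_add' := fun b b' => by rw [D.c_add, map_add]
      map_smul' := fun a b => by
        have : a • b = f a * b := Algebra.smul_def a b
        rw [this, D.c_smul, map_mul, RingHom.id_apply]
        exact (Algebra.smul_def a (g (D.c k b))).symm }
  have hlift : ∀ k b, hbc.lift (ψ k) (g' b) = g (D.c k b) := fun k b => hbc.lift_eq (ψ k) b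
  refine ⟨{
    g := fun k => g' (D.g k)
    c := fun k b' => hbc.lift (ψ k) b'
    c_add := fun k b b' => map_add _ _ _
    c_smul := fun k a b => by
      have : f' a * b = a • b := (Algebra.smul_def a b).symm
      rw [this, map_smul, smul_eq_mul]
    sum_eq := fun b' => by
      refine hbc.inductionOn b' (fun b' => ∑ k, f' (hbc.lift (ψ k) b') * g' (D.g k) = b')
        ?_ ?_ ?_ ?_
      · simp
      · intro b
        change ∑ k, f' (hbc.lift (ψ k) (g' b)) * g' (D.g k) = g' b
        simp only [hlift]
        have h1 : ∀ k, f' (g (D.c k b)) = g' (f (D.c k b)) := fun k =>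
          RingHom.congr_fun hw (D.c k b)
        simp only [h1, ← map_mul, ← map_sum, D.sum_eq]
      · intro a' x hx
        simp only [map_smul, smul_eq_mul, map_mul, mul_assoc]
        rw [← Finset.mul_sum, hx]
        exact (Algebra.smul_def a' x).symm
      · intro x y hx hy
        simp only [map_add, add_mul, Finset.sum_add_distrib, hx, hy] }, fun k => rfl, hlift⟩

theorem DualBasis.mat_baseChange {A B A' B' : Type u} [CommRing A] [CommRing B] [CommRing A']
    [CommRing B'] {f : A →+* B} (g : A →+* A') (g' : B →+* B') {f' : A' →+* B'} {n : ℕ}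
    (D : DualBasis f n) (D' : DualBasis f' n) (h1 : ∀ k, D'.g k = g' (D.g k))
    (h2 : ∀ k b, D'.c k (g' b) = g (D.c k b)) (b : B) :
    D'.mat (g' b) = (D.mat b).map g := by
  ext j k
  rw [DualBasis.mat_apply, Matrix.map_apply, DualBasis.mat_apply, h1, ← map_mul, h2]

end Groth.Agent.H40.FG
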