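import Groth.Agent.H40.FG.AGrpd
import Mathlib.RingTheory.Flat.Basic
import Mathlib.LinearAlgebra.TensorProduct.Tower

/-!
# Left base change `L ⊗[K] –` of affine groupoids in algebraic form

The result is an algebraic groupoid over `L`; for flat `L` its ring of invariants is `L`.
-/

set_option autoImplicit false
set_option backward.isDefEq.respectTransparency.types false
universe u

open CategoryTheory CategoryTheory.Limits TensorProduct

namespace Groth.Agent.H40.FG

section

variable {K : Type u} [CommRing K] (L : Type u) [CommRing L] [Algebra K L]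
variable {X Y Z W : Type u} [CommRing X] [CommRing Y] [CommRing Z] [CommRing W]
  [Algebra K X] [Algebra K Y] [Algebra K Z] [Algebra K W]

/-- `id ⊗ f`. -/
noncomputable abbrev lbcMap (f : X →ₐ[K] Y) : L ⊗[K] X →ₐ[L] L ⊗[K] Y :=
  Algebra.TensorProduct.map (AlgHom.id L L) f

theorem lbcMap_tmul (f : X →ₐ[K] Y) (l : L) (x : X) : lbcMap L f (l ⊗ₜ x) = l ⊗ₜ f x := by
  simp [lbcMap]

/-- the base change square of an algebra map is a pushout. -/
theorem isPushout_lbcMap (f : X →ₐ[K] Y) :
    IsPushout (CommRingCat.ofHom f.toRingHom)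
      (CommRingCat.ofHom (Algebra.TensorProduct.includeRight : X →ₐ[K] L ⊗[K] X).toRingHom)
      (CommRingCat.ofHom (Algebra.TensorProduct.includeRight : Y →ₐ[K] L ⊗[K] Y).toRingHom)
      (CommRingCat.ofHom (lbcMap L f).toRingHom) := by
  have hX := (CommRingCat.isPushout_tensorProduct K L X).flip
  have hY := (CommRingCat.isPushout_tensorProduct K L Y).flip
  have e1 : CommRingCat.ofHom (algebraMap K X) ≫ CommRingCat.ofHom f.toRingHom =
      CommRingCat.ofHom (algebraMap K Y) := by
    ext r
    simp
  have e2 : CommRingCat.ofHom (S := L ⊗[K] X)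
        (Algebra.TensorProduct.includeLeftRingHom : L →+* L ⊗[K] X) ≫
      CommRingCat.ofHom (lbcMap L f).toRingHom =
      CommRingCat.ofHom (S := L ⊗[K] Y)
        (Algebra.TensorProduct.includeLeftRingHom : L →+* L ⊗[K] Y) := by
    ext r
    simp [lbcMap]
  rw [← e1, ← e2] at hY
  refine IsPushout.of_left hY ?_ hX
  ext x
  simp [lbcMap]

/-- a pushout square of `K`-algebras stays a pushout square after `L ⊗[K] –`. -/
theorem tensor_isPushout_left (f : X →ₐ[K] Y) (g : X →ₐ[K] Z) (h : Y →ₐ[K] W) (k : Z →ₐ[K] W)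
    (hpo : IsPushout (CommRingCat.ofHom f.toRingHom) (CommRingCat.ofHom g.toRingHom)
      (CommRingCat.ofHom h.toRingHom) (CommRingCat.ofHom k.toRingHom)) :
    IsPushout (CommRingCat.ofHom (lbcMap L f).toRingHom)
      (CommRingCat.ofHom (lbcMap L g).toRingHom)
      (CommRingCat.ofHom (lbcMap L h).toRingHom) (CommRingCat.ofHom (lbcMap L k).toRingHom) := by
  have hh := (isPushout_lbcMap L h).flip
  have hg := (isPushout_lbcMap L g).flip
  have outer := hpo.paste_horiz hh
  have e1 : CommRingCat.ofHom f.toRingHom ≫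
      CommRingCat.ofHom (Algebra.TensorProduct.includeRight : Y →ₐ[K] L ⊗[K] Y).toRingHom =
      CommRingCat.ofHom (Algebra.TensorProduct.includeRight : X →ₐ[K] L ⊗[K] X).toRingHom ≫
        CommRingCat.ofHom (lbcMap L f).toRingHom := by
    ext x
    simp [lbcMap]
  have e2 : CommRingCat.ofHom k.toRingHom ≫
      CommRingCat.ofHom (Algebra.TensorProduct.includeRight : W →ₐ[K] L ⊗[K] W).toRingHom =
      CommRingCat.ofHom (Algebra.TensorProduct.includeRight : Z →ₐ[K] L ⊗[K] Z).toRingHom ≫
        CommRingCat.ofHom (lbcMap L k).toRingHom := by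
    ext x
    simp [lbcMap]
  rw [e1, e2] at outer
  refine IsPushout.of_left outer ?_ hg
  have hw := fun x => congrArg (fun φ => φ.hom x) hpo.w
  simp only [CommRingCat.hom_comp, CommRingCat.hom_ofHom, RingHom.coe_comp,
    Function.comp_apply, AlgHom.toRingHom_eq_coe, RingHom.coe_coe] at hw
  ext x
  · simp [lbcMap]
  · simp [lbcMap, hw]

theorem lbcMap_comp_apply (f : X →ₐ[K] Y) (g : Y →ₐ[K] Z) (h : X →ₐ[K] Z)
    (hh : ∀ x, g (f x) = h x) (x : L ⊗[K] X) : lbcMap L g (lbcMap L f x) = lbcMap L h x := by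
  induction x using TensorProduct.induction_on with
  | zero => simp
  | tmul l x => simp [lbcMap, hh]
  | add x y hx hy => simp only [map_add, hx, hy]

theorem lbcMap_id_apply (h : X →ₐ[K] X) (hh : ∀ x, h x = x) (x : L ⊗[K] X) :
    lbcMap L h x = x := by
  induction x using TensorProduct.induction_on with
  | zero => simp
  | tmul l x => simp [lbcMap, hh]
  | add x y hx hy => simp only [map_add, hx, hy]

end

namespace AGrpd

variable {K A B E : Type u} [CommRing K] [CommRing A] [CommRing B] [CommRing E]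
    [Algebra K A] [Algebra K B] [Algebra K E] (H : AGrpd K A B E)
variable (L : Type u) [CommRing L] [Algebra K L]

/-- left base change of an affine groupoid along `K → L`, as a groupoid over `L`. -/
noncomputable def lbc : AGrpd L (L ⊗[K] A) (L ⊗[K] B) (L ⊗[K] E) where
  σ := lbcMap L H.σ
  τ := lbcMap L H.τ
  ε := lbcMap L H.ε
  p₀ := lbcMap L H.p₀
  p₁ := lbcMap L H.p₁
  γ := lbcMap L H.γ
  ε_σ := fun a => by
    rw [lbcMap_comp_apply L H.σ H.ε (AlgHom.id K A) (fun x => H.ε_σ x)]
    exact lbcMap_id_apply L _ (fun _ => rfl) a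
  ε_τ := fun a => by
    rw [lbcMap_comp_apply L H.τ H.ε (AlgHom.id K A) (fun x => H.ε_τ x)]
    exact lbcMap_id_apply L _ (fun _ => rfl) a
  po₁ := tensor_isPushout_left L _ _ _ _ H.po₁
  po₂ := tensor_isPushout_left L _ _ _ _ H.po₂
  γ_τ := fun a => by
    rw [lbcMap_comp_apply L H.τ H.γ (H.p₀.comp H.τ) (fun x => H.γ_τ x),
      lbcMap_comp_apply L H.τ H.p₀ (H.p₀.comp H.τ) (fun x => rfl)]

@[simp] theorem lbc_σ_tmul (l : L) (a : A) : (H.lbc L).σ (l ⊗ₜ a) = l ⊗ₜ H.σ a := by
  simp [lbc, lbcMap]

@[simp] theorem lbc_τ_tmul (l : L) (a : A) : (H.lbc L).τ (l ⊗ₜ a) = l ⊗ₜ H.τ a := by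
  simp [lbc, lbcMap]

/-- the base change of a dual basis for `σ`. -/
theorem exists_dualBasis_lbc {n : ℕ} (D : DualBasis H.σ.toRingHom n) :
    Nonempty (DualBasis (H.lbc L).σ.toRingHom n) := by
  obtain ⟨D', -, -⟩ := DualBasis.exists_baseChange H.σ.toRingHom
    (Algebra.TensorProduct.includeRight : A →ₐ[K] L ⊗[K] A).toRingHom
    (Algebra.TensorProduct.includeRight : B →ₐ[K] L ⊗[K] B).toRingHom
    (H.lbc L).σ.toRingHom (isPushout_lbcMap L H.σ).flip D
  exact ⟨D'⟩

/-- the standing hypotheses: `K` is the ring of invariants, `σ` is finite locally free and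
`(τ, σ)` is a closed immersion. -/
structure Hyp : Prop where
  inj : Function.Injective (algebraMap K A)
  ex : ∀ a, H.σ a = H.τ a → a ∈ Set.range (algebraMap K A)
  dual : ∃ n, Nonempty (DualBasis H.σ.toRingHom n)
  gen : ∀ b : B, b ∈ AddSubmonoid.closure {y : B | ∃ a a', H.σ a * H.τ a' = y}

variable {H}

theorem Hyp.lbc (h : H.Hyp) [Module.Flat K L] : (H.lbc L).Hyp where
  inj := Algebra.TensorProduct.includeLeft_injective (S := L) h.inj
  ex := by
    intro f hf
    let φ : K →ₗ[K] A := Algebra.linearMap K A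
    let ψ : A →ₗ[K] B := H.σ.toLinearMap - H.τ.toLinearMap
    have hexact : Function.Exact φ ψ := by
      intro a
      constructor
      · intro h0
        have : H.σ a = H.τ a := by
          have : H.σ a - H.τ a = 0 := h0
          exact sub_eq_zero.mp this
        exact h.ex a this
      · rintro ⟨c, rfl⟩
        change H.σ (algebraMap K A c) - H.τ (algebraMap K A c) = 0
        rw [AlgHom.commutes, AlgHom.commutes, sub_self]
    have hex' := Module.Flat.lTensor_exact L hexact
    have hψ : ∀ x : L ⊗[K] A, (ψ.lTensor L) x = (H.lbc L).σ x - (H.lbc L).τ x := by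
      intro x
      induction x using TensorProduct.induction_on with
      | zero => simp
      | tmul l a =>
        simp only [LinearMap.lTensor_tmul, lbc_σ_tmul, lbc_τ_tmul]
        change l ⊗ₜ[K] (H.σ a - H.τ a) = _
        rw [TensorProduct.tmul_sub]
      | add x y hx hy => rw [map_add, hx, hy, map_add, map_add]; abel
    have h0 : (ψ.lTensor L) f = 0 := by rw [hψ, hf, sub_self]
    obtain ⟨z, hz⟩ := (hex' f).mp h0
    refine ⟨TensorProduct.rid K L z, ?_⟩
    rw [← hz]
    clear hz
    induction z using TensorProduct.induction_on with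
    | zero => simp
    | tmul l c =>
      simp only [TensorProduct.rid_tmul, LinearMap.lTensor_tmul,
        Algebra.TensorProduct.algebraMap_apply, Algebra.algebraMap_self, RingHom.id_apply]
      change (c • l) ⊗ₜ[K] (1 : A) = l ⊗ₜ[K] (algebraMap K A c)
      rw [TensorProduct.smul_tmul, Algebra.algebraMap_eq_smul_one]
    | add x y hx hy => simp only [map_add, hx, hy]
  dual := by
    obtain ⟨n, ⟨D⟩⟩ := h.dual
    exact ⟨n, H.exists_dualBasis_lbc L D⟩
  gen := by
    intro b
    induction b using TensorProduct.induction_on with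
    | zero => exact zero_mem _
    | tmul l b =>
      have hb := h.gen b
      induction hb using AddSubmonoid.closure_induction with
      | mem y hy =>
        obtain ⟨a, a', rfl⟩ := hy
        refine AddSubmonoid.subset_closure ⟨l ⊗ₜ a, 1 ⊗ₜ a', ?_⟩
        simp
      | zero =>
        rw [TensorProduct.tmul_zero]
        exact zero_mem _
      | add y z _ _ hy hz =>
        rw [TensorProduct.tmul_add]
        exact add_mem hy hz
    | add x y hx hy => exact add_mem hx hy

end AGrpd

end Groth.Agent.H40.FG
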