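import Groth.Agent.H40.FG.IndepAt
import Groth.Agent.H40.FG.LBC

/-!
# Fibres of a finite locally free algebra over field valued points

`V` is a base change of `B` along `ξ : A → F`, with the base-changed dual basis `D'`.
-/

set_option autoImplicit false
set_option backward.isDefEq.respectTransparency.types false
universe u

open CategoryTheory CategoryTheory.Limits Matrix Polynomial

namespace Groth.Agent.H40.FG

theorem rankPoly_map {A R : Type u} [CommRing A] [CommRing R] {n : ℕ} (φ : A →+* R)
    (P : Matrix (Fin n) (Fin n) A) : (rankPoly P).map φ = rankPoly (P.map φ) := by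
  have h := eval₂_rankPoly ((C : R →+* R[X]).comp φ) P (X : R[X])
  rw [← Polynomial.eval₂_map, Polynomial.eval₂_C_X] at h
  rw [h, rankPoly]
  congr 1

namespace DualBasis

/-- over a field the rank polynomial is `X ^ dim`. -/
theorem rankPoly_eq_X_pow_finrank {k V : Type u} [Field k] [CommRing V] [Algebra k V] {n : ℕ}
    (D : DualBasis (algebraMap k V) n) : rankPoly (D.mat 1) = X ^ Module.finrank k V := by
  have e : (algebraMap k V).toAlgebra = ‹Algebra k V› := Algebra.algebra_ext _ _ (fun _ => rfl)
  have hfin := D.moduleFinite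
  rw [e] at hfin
  let bV := Module.finBasis k V
  let bV' : (letI := (algebraMap k V).toAlgebra; Module.Basis (Fin (Module.finrank k V)) k V) := by
    rw [e]
    exact bV
  have h1 := D.rankPoly_mat_one_eq (dualBasisOfBasis (algebraMap k V) bV')
  rw [mat_one_dualBasisOfBasis, rankPoly_one] at h1
  rw [e] at h1
  exact h1

section Fibre

variable {A B : Type u} [CommRing A] [CommRing B] {f : A →+* B} {n : ℕ} (D : DualBasis f n)
  {F V : Type u} [Field F] [CommRing V] [Algebra F V] (D' : DualBasis (algebraMap F V) n)
  (ξ : A →+* F) (h : B →+* V) (hc : ∀ k b, D'.c k (h b) = ξ (D.c k b))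

include hc in
theorem indepAt_iff_linearIndependent {I : Type u} [Fintype I] (y : I → B) :
    D.IndepAt ξ y ↔ LinearIndependent F (fun j => h (y j)) := by
  have key : ∀ (v : I → F) (i : Fin n), D'.c i (∑ j, v j • h (y j)) =
      ∑ j, ξ (D.c i (y j)) * v j := by
    intro v i
    rw [D'.c_sum]
    refine Finset.sum_congr rfl fun j _ => ?_
    rw [Algebra.smul_def, D'.c_smul, hc, mul_comm]
  constructor
  · intro hI
    rw [Fintype.linearIndependent_iff]
    intro v hv
    have := hI v (fun i => by rw [← key, hv, D'.c_zero])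
    exact fun i => congrFun this i
  · intro hli v hv
    rw [Fintype.linearIndependent_iff] at hli
    have hz : ∑ j, v j • h (y j) = 0 := by
      rw [← D'.sum_eq (∑ j, v j • h (y j))]
      refine Finset.sum_eq_zero fun i _ => ?_
      rw [key, hv i, map_zero, zero_mul]
    funext j
    exact hli v hz j

include hc in
theorem map_rankPoly_eq_X_pow (hg : ∀ k, D'.g k = h (D.g k)) :
    (rankPoly (D.mat 1)).map ξ = X ^ Module.finrank F V := by
  have := DualBasis.mat_baseChange ξ h D D' hg hc 1
  rw [map_one] at this
  rw [rankPoly_map, ← this, D'.rankPoly_eq_X_pow_finrank]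

end Fibre

end DualBasis

namespace AGrpd

variable {K A B E : Type u} [CommRing K] [CommRing A] [CommRing B] [CommRing E]
    [Algebra K A] [Algebra K B] [Algebra K E] (H : AGrpd K A B E)

section Fibre

variable {n : ℕ} (D : DualBasis H.σ.toRingHom n)
  {F V : Type u} [Field F] [CommRing V] [Algebra F V] (D' : DualBasis (algebraMap F V) n)
  (ξ : A →+* F) (h : B →+* V) (hc : ∀ k b, D'.c k (h b) = ξ (D.c k b))
  (hg : ∀ k, D'.g k = h (D.g k)) (hw : ∀ a, h (H.σ a) = algebraMap F V (ξ a))
  (hgen : ∀ b : B, b ∈ AddSubmonoid.closure {y : B | ∃ a a', H.σ a * H.τ a' = y})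

include hg hw hgen in
theorem span_range_τ_eq_top :
    Submodule.span F (Set.range (fun a => h (H.τ a))) = ⊤ := by
  have hb : ∀ b : B, h b ∈ Submodule.span F (Set.range (fun a => h (H.τ a))) := by
    intro b
    have := hgen b
    induction this using AddSubmonoid.closure_induction with
    | mem y hy =>
      obtain ⟨a, a', rfl⟩ := hy
      rw [map_mul, hw, ← Algebra.smul_def]
      exact Submodule.smul_mem _ _ (Submodule.subset_span ⟨a', rfl⟩)
    | zero =>
      rw [map_zero]
      exact zero_mem _
    | add y z _ _ hy hz =>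
      rw [map_add]
      exact add_mem hy hz
  rw [eq_top_iff]
  intro z _
  rw [← D'.sum_eq z]
  refine Submodule.sum_mem _ fun i _ => ?_
  rw [← Algebra.smul_def, hg]
  exact Submodule.smul_mem _ _ (hb _)

include hc hg hw hgen in
/-- a basis of the fibre can be chosen among the `τ a`. -/
theorem exists_indepAt : ∃ (I : Type u) (_ : Fintype I) (x : I → A),
    D.IndepAt ξ (fun j => H.τ (x j)) ∧ Fintype.card I = Module.finrank F V := by
  have e : (algebraMap F V).toAlgebra = ‹Algebra F V› := Algebra.algebra_ext _ _ (fun _ => rfl)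
  have hfin := D'.moduleFinite
  rw [e] at hfin
  obtain ⟨b, hbS, hspan, hli⟩ := exists_linearIndependent F (Set.range (fun a => h (H.τ a)))
  rw [H.span_range_τ_eq_top D D' ξ h hg hw hgen] at hspan
  let bb : Module.Basis b F V := Module.Basis.mk hli (by
    rw [Subtype.range_coe_subtype, Set.setOf_mem_eq, hspan])
  haveI : Finite b := Module.Finite.finite_basis bb
  letI : Fintype b := Fintype.ofFinite b
  choose x hx using fun j : b => hbS j.2
  refine ⟨b, inferInstance, x, ?_, (Module.finrank_eq_card_basis bb).symm⟩
  rw [DualBasis.indepAt_iff_linearIndependent D D' ξ h hc]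
  have : (fun j => h (H.τ (x j))) = (Subtype.val : b → V) := funext hx
  rw [this]
  exact hli

end Fibre

end AGrpd

end Groth.Agent.H40.FG
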