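import Groth.Agent.H40.FG.NormBC
import Mathlib.RingTheory.PolynomialAlgebra

/-!
# Invariants of a base change of a finite locally free affine groupoid

For an invariant element `f` of `A ⊗[K] K'` some power `(X - f)^N` has coefficients in `K'`.
-/

set_option autoImplicit false
set_option backward.isDefEq.respectTransparency.types false
universe u

open CategoryTheory CategoryTheory.Limits Matrix Polynomial TensorProduct

namespace Groth.Agent.H40.FG

namespace DualBasis

variable {A B : Type u} [CommRing A] [CommRing B]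

/-- for an injective `f` the module `B` has rank `≥ 1` everywhere: `det (1 - Π) = 0`. -/
theorem det_one_sub_mat_one {f : A →+* B} {n : ℕ} (D : DualBasis f n)
    (hinj : Function.Injective f) : (1 - D.mat 1).det = 0 := by
  set M := 1 - D.mat 1 with hM
  have h1 : M.mulVec (D.vec 1) = 0 := by
    rw [hM, Matrix.sub_mulVec, Matrix.one_mulVec, D.mat_mulVec, mul_one, sub_self]
  have h2 : (M.det • (1 : Matrix (Fin n) (Fin n) A)).mulVec (D.vec 1) = 0 := by
    rw [← Matrix.adjugate_mul, ← Matrix.mulVec_mulVec, h1, Matrix.mulVec_zero]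
  rw [Matrix.smul_mulVec, Matrix.one_mulVec] at h2
  have h3 : ∀ k, M.det * D.c k 1 = 0 := fun k => by
    have := congrFun h2 k
    simpa [DualBasis.vec] using this
  apply hinj
  rw [map_zero]
  calc f M.det = f M.det * ∑ k, f (D.c k 1) * D.g k := by rw [D.sum_eq, mul_one]
    _ = ∑ k, f (M.det * D.c k 1) * D.g k := by
        rw [Finset.mul_sum]
        refine Finset.sum_congr rfl fun k _ => ?_
        rw [map_mul, mul_assoc]
    _ = 0 := by simp [h3]

end DualBasis

namespace AGrpd

variable {K A B E : Type u} [CommRing K] [CommRing A] [CommRing B] [CommRing E]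
    [Algebra K A] [Algebra K B] [Algebra K E] (H : AGrpd K A B E)

/-- a base-changed dual basis whose matrices are the base changes of the original ones. -/
theorem exists_dualBasis_baseChange_mat (K' : Type u) [CommRing K'] [Algebra K K'] {n : ℕ}
    (D : DualBasis H.σ.toRingHom n) :
    ∃ D' : DualBasis (H.baseChange K').σ.toRingHom n, ∀ b : B, D'.mat (b ⊗ₜ[K] (1 : K')) =
      (D.mat b).map (Algebra.TensorProduct.includeLeftRingHom : A →+* A ⊗[K] K') := by
  obtain ⟨D', g', c'⟩ := H.exists_dualBasis_baseChange K' D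
  refine ⟨D', fun b => ?_⟩
  exact DualBasis.mat_baseChange
    (Algebra.TensorProduct.includeLeftRingHom : A →+* A ⊗[K] K')
    (Algebra.TensorProduct.includeLeftRingHom : B →+* B ⊗[K] K') D D' g'
    (fun k b => c' k b 1) b

/-- the norm of `σ h` is the value of the rank polynomial at `h`. -/
theorem nm_σ_eq_eval₂ (K' : Type u) [CommRing K'] [Algebra K K'] {n : ℕ}
    (D : DualBasis H.σ.toRingHom n) (D' : DualBasis (H.baseChange K').σ.toRingHom n)
    (h : A ⊗[K] K') :
    D'.nm ((H.baseChange K').σ h) = (rankPoly (D.mat 1)).eval₂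
      (Algebra.TensorProduct.includeLeftRingHom : A →+* A ⊗[K] K') h := by
  obtain ⟨D'', hD''⟩ := H.exists_dualBasis_baseChange_mat K' D
  rw [D'.nm_eq D'']
  have e := D''.nm_map_eq_rdet h
  have e1 : D''.mat 1 = (D.mat 1).map
      (Algebra.TensorProduct.includeLeftRingHom : A →+* A ⊗[K] K') := hD'' 1
  rw [e1, ← eval₂_rankPoly] at e
  exact e

/-- the coefficients of the rank polynomial are invariant. -/
theorem coeff_rankPoly_mem_range (hex : ∀ a, H.σ a = H.τ a → a ∈ Set.range (algebraMap K A))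
    {n : ℕ} (D : DualBasis H.σ.toRingHom n) (r : ℕ) :
    (rankPoly (D.mat 1)).coeff r ∈ Set.range (algebraMap K A) := by
  obtain ⟨D₃, -, -⟩ := H.exists_dualBasis_baseChange K[X] D
  have hh : (H.baseChange K[X]).σ ((1 : A) ⊗ₜ[K] (X : K[X])) =
      (H.baseChange K[X]).τ ((1 : A) ⊗ₜ[K] (X : K[X])) := by simp
  obtain ⟨p, hp⟩ := H.nm_σ_mem_range hex D K[X] D₃ _ hh
  rw [H.nm_σ_eq_eval₂ K[X] D D₃] at hp
  let Ψ₀ : A ⊗[K] K[X] →ₐ[K] A[X] :=
    Algebra.TensorProduct.productMap (IsScalarTower.toAlgHom K A A[X])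
      (Polynomial.mapAlgHom (Algebra.ofId K A))
  have h1 := congrArg Ψ₀ hp
  have h2 : Ψ₀ ((1 : A) ⊗ₜ[K] p) = p.map (algebraMap K A) := by
    simp [Ψ₀]
  have h3 : Ψ₀ ((rankPoly (D.mat 1)).eval₂
      (Algebra.TensorProduct.includeLeftRingHom : A →+* A ⊗[K] K[X]) ((1 : A) ⊗ₜ[K] (X : K[X]))) =
      rankPoly (D.mat 1) := by
    have := Polynomial.hom_eval₂ (rankPoly (D.mat 1))
      (Algebra.TensorProduct.includeLeftRingHom : A →+* A ⊗[K] K[X]) Ψ₀.toRingHom
      ((1 : A) ⊗ₜ[K] (X : K[X]))
    have e1 : Ψ₀.toRingHom.comp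
        (Algebra.TensorProduct.includeLeftRingHom : A →+* A ⊗[K] K[X]) = C := by
      ext a
      simp [Ψ₀]
    have e2 : Ψ₀.toRingHom ((1 : A) ⊗ₜ[K] (X : K[X])) = X := by
      simp [Ψ₀]
    rw [e1, e2, Polynomial.eval₂_C_X] at this
    exact this
  rw [Algebra.TensorProduct.includeRight_apply, h2, h3] at h1
  refine ⟨p.coeff r, ?_⟩
  rw [← h1, Polynomial.coeff_map]

/-- for an invariant element `f` of a base change `A ⊗[K] K'`, some power `(X - f)^N` has
coefficients in `K'`. -/
theorem exists_pow_eq_map (hex : ∀ a, H.σ a = H.τ a → a ∈ Set.range (algebraMap K A))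
    {n : ℕ} (D : DualBasis H.σ.toRingHom n) (K' : Type u) [CommRing K'] [Algebra K K']
    (f : A ⊗[K] K') (hf : (H.baseChange K').σ f = (H.baseChange K').τ f) :
    ∃ (N : ℕ) (P : K'[X]), 0 < N ∧
      P.map (Algebra.TensorProduct.includeRight : K' →ₐ[K] A ⊗[K] K').toRingHom =
        (X - C f) ^ N := by
  have hP1 : D.mat 1 * D.mat 1 = D.mat 1 := by rw [← D.mat_mul, mul_one]
  set q := rankPoly (D.mat 1) with hq
  choose ē hē using fun r => H.coeff_rankPoly_mem_range hex D r
  obtain ⟨D₂, -, -⟩ := H.exists_dualBasis_baseChange K'[X] D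
  let Cα : K' →ₐ[K] K'[X] := IsScalarTower.toAlgHom K K' K'[X]
  let g : A ⊗[K] K'[X] := (1 : A) ⊗ₜ[K] (X : K'[X]) - bcRight A Cα f
  have hg : (H.baseChange K'[X]).σ g = (H.baseChange K'[X]).τ g := by
    simp only [g, map_sub, baseChange_σ_bcRight, baseChange_τ_bcRight, hf, baseChange_σ_tmul,
      baseChange_τ_tmul, map_one]
  obtain ⟨P, hP⟩ := H.nm_σ_mem_range hex D K'[X] D₂ g hg
  rw [H.nm_σ_eq_eval₂ K'[X] D D₂, ← hq, Polynomial.eval₂_eq_sum_range] at hP
  let E : ℕ → A ⊗[K] K'[X] := fun r =>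
    (Algebra.TensorProduct.includeLeftRingHom : A →+* A ⊗[K] K'[X]) (q.coeff r)
  have hE : ∀ i j, E i * E j = if i = j then E j else 0 := by
    intro i j
    simp only [E]
    rw [← map_mul, hq, coeff_rankPoly_mul_coeff hP1]
    split_ifs <;> simp
  have hsum : ∑ r ∈ Finset.range (q.natDegree + 1), E r = 1 := by
    simp only [E]
    rw [← map_sum, hq, sum_coeff_rankPoly, map_one]
  have h0 : E 0 = 0 := by
    simp only [E]
    rw [hq, coeff_zero_rankPoly, D.det_one_sub_mat_one H.σ_injective, map_zero]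
  have key := sum_idem_mul_pow E q.natDegree hE hsum h0 g _ hP
  let Pf : K'[X] := ∑ r ∈ Finset.range (q.natDegree + 1),
    C (algebraMap K K' (ē r)) * P ^ (q.natDegree.factorial / r)
  have hEr : ∀ r, E r = (Algebra.TensorProduct.includeRight : K'[X] →ₐ[K] A ⊗[K] K'[X])
      (C (algebraMap K K' (ē r))) := by
    intro r
    simp only [E]
    rw [← hē r, Algebra.TensorProduct.includeRight_apply,
      Algebra.TensorProduct.includeLeftRingHom_apply]
    rw [Algebra.algebraMap_eq_smul_one, TensorProduct.smul_tmul, Algebra.algebraMap_eq_smul_one,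
      ← Polynomial.smul_C, map_one]
  have hPf : (Algebra.TensorProduct.includeRight : K'[X] →ₐ[K] A ⊗[K] K'[X]) Pf =
      g ^ q.natDegree.factorial := by
    rw [← key]
    simp only [Pf, map_sum, map_mul, map_pow, hEr]
  let Ψ : A ⊗[K] K'[X] →ₐ[K] (A ⊗[K] K')[X] :=
    Algebra.TensorProduct.productMap
      ((IsScalarTower.toAlgHom K (A ⊗[K] K') (A ⊗[K] K')[X]).comp
        (Algebra.TensorProduct.includeLeft : A →ₐ[K] A ⊗[K] K'))
      (Polynomial.mapAlgHom (Algebra.TensorProduct.includeRight : K' →ₐ[K] A ⊗[K] K'))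
  have hΨ1 : ∀ p : K'[X], Ψ ((Algebra.TensorProduct.includeRight :
      K'[X] →ₐ[K] A ⊗[K] K'[X]) p) =
      p.map (Algebra.TensorProduct.includeRight : K' →ₐ[K] A ⊗[K] K').toRingHom := by
    intro p
    simp only [Ψ, Algebra.TensorProduct.includeRight_apply,
      Algebra.TensorProduct.productMap_apply_tmul, map_one, one_mul]
    rfl
  have hΨ2 : ∀ x : A ⊗[K] K', Ψ (bcRight A Cα x) = C x := by
    intro x
    induction x using TensorProduct.induction_on with
    | zero => simp
    | tmul a r =>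
      simp only [bcRight, Algebra.TensorProduct.map_tmul, AlgHom.id_apply, Ψ,
        Algebra.TensorProduct.productMap_apply_tmul, AlgHom.comp_apply,
        Algebra.TensorProduct.includeLeft_apply, Cα, IsScalarTower.coe_toAlgHom',
        Polynomial.algebraMap_eq]
      change C (a ⊗ₜ[K] (1 : K')) * Polynomial.map _ (C r) = _
      rw [Polynomial.map_C, ← map_mul]
      congr 1
      change a ⊗ₜ[K] (1 : K') * (1 : A) ⊗ₜ[K] r = _
      rw [Algebra.TensorProduct.tmul_mul_tmul, mul_one, one_mul]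
    | add x y hx hy => simp only [map_add, hx, hy]
  have hΨ3 : Ψ g = X - C f := by
    simp only [g, map_sub, hΨ2]
    congr 1
    simp only [Ψ, Algebra.TensorProduct.productMap_apply_tmul, map_one, one_mul]
    change Polynomial.map _ X = X
    rw [Polynomial.map_X]
  refine ⟨q.natDegree.factorial, Pf, Nat.factorial_pos _, ?_⟩
  rw [← hΨ1, hPf, map_pow, hΨ3]

end AGrpd

end Groth.Agent.H40.FG
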