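import Groth.Agent.H27.TensorPrime
import Mathlib.RingTheory.Spectrum.Prime.RingHom
import Mathlib.RingTheory.Nilpotent.Lemmas

/-!
# The kernel of `C' → A ⊗[C] C'` is nil when `Spec A → Spec C` is surjective
-/

set_option autoImplicit false
universe u

open scoped TensorProduct

namespace Groth.Agent.H40.FG

theorem isNilpotent_of_includeRight_eq_zero {C A C' : Type u} [CommRing C] [CommRing A]
    [CommRing C'] [Algebra C A] [Algebra C C']
    (hsurj : Function.Surjective (PrimeSpectrum.comap (algebraMap C A))) (c : C')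
    (hc : (Algebra.TensorProduct.includeRight : C' →ₐ[C] A ⊗[C] C') c = 0) : IsNilpotent c := by
  rw [← mem_nilradical, nilradical_eq_sInf, Ideal.mem_sInf]
  intro m hm
  have : m.IsPrime := hm
  obtain ⟨⟨𝔮, h𝔮⟩, h⟩ := hsurj ⟨m.comap (algebraMap C C'), inferInstance⟩
  have : 𝔮.IsPrime := h𝔮
  have hpm : 𝔮.comap (algebraMap C A) = m.comap (algebraMap C C') :=
    congrArg PrimeSpectrum.asIdeal h
  obtain ⟨Q, hQ, -, hQm⟩ := Groth.Agent.H27.TensorPrime.exists_prime 𝔮 m hpm
  rw [← hQm, Ideal.mem_comap]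
  change (Algebra.TensorProduct.includeRight : C' →ₐ[C] A ⊗[C] C') c ∈ Q
  rw [hc]
  exact Q.zero_mem

end Groth.Agent.H40.FG
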