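import Groth.Agent.H40.FG.AGrpdOfG
import Groth.Agent.H40.FG.InvBC
import Groth.Agent.H40.FG.NilKer
import Mathlib.RingTheory.Spectrum.Prime.Topology

/-!
# Invariants of a base change of a finite locally free affine groupoid scheme
-/

set_option autoImplicit false
set_option backward.isDefEq.respectTransparency.types false
universe u

open CategoryTheory CategoryTheory.Limits AlgebraicGeometry Grpd Polynomial TensorProduct

namespace Groth.Agent.H40.FG

variable {S : Scheme.{u}} (G : GroupoidScheme S) [IsAffine G.U] [IsAffine G.R]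
  [IsFinite G.s] [Flat G.s] [LocallyOfFinitePresentation G.s]

theorem hex_aGrpd : letI := algB G; letI := algE G
    ∀ a, (aGrpd G).σ a = (aGrpd G).τ a → a ∈ Set.range (algebraMap G.invariants Γ(G.U, ⊤)) :=
  fun a ha => ⟨⟨a, ha⟩, rfl⟩

variable (C' : Type u) [CommRing C'] [Algebra G.invariants C']

theorem invariants_baseChange_pow : letI := algB G; letI := algE G
    ∀ f : Γ(G.U, ⊤) ⊗[G.invariants] C',
      ((aGrpd G).baseChange C').σ f = ((aGrpd G).baseChange C').τ f →
      ∃ (N : ℕ) (P : C'[X]), 0 < N ∧
        P.map (Algebra.TensorProduct.includeRight :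
          C' →ₐ[G.invariants] Γ(G.U, ⊤) ⊗[G.invariants] C').toRingHom = (X - C f) ^ N := by
  letI := algB G
  letI := algE G
  intro f hf
  obtain ⟨n, ⟨D⟩⟩ := exists_dualBasis_σ G
  exact (aGrpd G).exists_pow_eq_map (hex_aGrpd G) D C' f hf

theorem invariants_baseChange_nil (c : C')
    (hc : (Algebra.TensorProduct.includeRight :
      C' →ₐ[G.invariants] Γ(G.U, ⊤) ⊗[G.invariants] C') c = 0) : IsNilpotent c := by
  haveI := isIntegral_invariants G
  have hinj : Function.Injective (algebraMap G.invariants Γ(G.U, ⊤)) := Subtype.val_injective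
  haveI : FaithfulSMul G.invariants Γ(G.U, ⊤) :=
    (faithfulSMul_iff_algebraMap_injective _ _).mpr hinj
  exact isNilpotent_of_includeRight_eq_zero
    (Algebra.IsIntegral.comap_surjective G.invariants Γ(G.U, ⊤)) c hc

theorem invariants_baseChange_flat [Module.Flat G.invariants C'] : letI := algB G; letI := algE G
    Function.Injective (Algebra.TensorProduct.includeRight :
      C' →ₐ[G.invariants] Γ(G.U, ⊤) ⊗[G.invariants] C') ∧
    ∀ f : Γ(G.U, ⊤) ⊗[G.invariants] C',
      ((aGrpd G).baseChange C').σ f = ((aGrpd G).baseChange C').τ f →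
      f ∈ Set.range (Algebra.TensorProduct.includeRight :
        C' →ₐ[G.invariants] Γ(G.U, ⊤) ⊗[G.invariants] C') := by
  letI := algB G
  letI := algE G
  refine ⟨Algebra.TensorProduct.includeRight_injective Subtype.val_injective, fun f hf => ?_⟩
  exact (aGrpd G).baseChange_invariant_mem_range C' (hex_aGrpd G) f hf

end Groth.Agent.H40.FG
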