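import Groth.Agent.H40.FG.LocalCore2

/-!
# The main algebraic theorem: `A` is flat over the invariants `K` and `A ⊗[K] A ≃ B`
-/

set_option autoImplicit false
set_option backward.isDefEq.respectTransparency.types false
universe u

open CategoryTheory CategoryTheory.Limits Matrix Polynomial TensorProduct

namespace Groth.Agent.H40.FG

namespace AGrpd

variable {K A B E : Type u} [CommRing K] [CommRing A] [CommRing B] [CommRing E]
    [Algebra K A] [Algebra K B] [Algebra K E] {H : AGrpd K A B E}

theorem Hyp.concl (h : H.Hyp) : H.Concl := by
  refine Concl.descent (ι := MaximalSpectrum K)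
    (fun q => Localization.AtPrime q.asIdeal) ?_ h ?_
  · intro q hq
    refine ⟨⟨q, hq⟩, ?_⟩
    change q.map (algebraMap K (Localization.AtPrime q)) ≠ ⊤
    rw [Localization.AtPrime.map_eq_maximalIdeal]
    exact (IsLocalRing.maximalIdeal.isMaximal _).ne_top
  · intro q
    exact (h.lbc (Localization.AtPrime q.asIdeal)).concl_of_isLocalRing

end AGrpd

end Groth.Agent.H40.FG
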