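import Groth.Agent.H40.FG.Quot
import Groth.Agent.H40.FG.MainAlg
import Groth.Agent.H40.FG.InvBCG
import Mathlib.Algebra.Category.Ring.Epi

/-!
# `(t, s)` a monomorphism ⇒ `Γ(R)` is generated by the `s♯ a * t♯ a'`
-/

set_option autoImplicit false
set_option backward.isDefEq.respectTransparency.types false
universe u

open CategoryTheory CategoryTheory.Limits AlgebraicGeometry Grpd TensorProduct

namespace Groth.Agent.H40.FG

variable {S : Scheme.{u}} (G : GroupoidScheme S) [IsAffine G.U] [IsAffine G.R]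

/-- `a ⊗ a' ↦ s♯ a * t♯ a'`. -/
noncomputable def stMap : Γ(G.U, ⊤) ⊗[ℤ] Γ(G.U, ⊤) →+* Γ(G.R, ⊤) :=
  (Algebra.TensorProduct.productMap (σ G).toIntAlgHom (τ G).toIntAlgHom).toRingHom

@[simp] theorem stMap_tmul (a a' : Γ(G.U, ⊤)) : stMap G (a ⊗ₜ a') = σ G a * τ G a' := by
  simp [stMap]

theorem epi_stMap [Mono G.j] : Epi (CommRingCat.ofHom (stMap G)) := by
  constructor
  intro T f g hfg
  have hσ : ∀ a, f.hom (σ G a) = g.hom (σ G a) := fun a => by
    have := congrArg (fun ψ => ψ.hom (a ⊗ₜ[ℤ] (1 : Γ(G.U, ⊤)))) hfg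
    simpa using this
  have hτ : ∀ a, f.hom (τ G a) = g.hom (τ G a) := fun a => by
    have := congrArg (fun ψ => ψ.hom ((1 : Γ(G.U, ⊤)) ⊗ₜ[ℤ] a)) hfg
    simpa using this
  have hs : (Spec.map f ≫ G.R.isoSpec.inv) ≫ G.s = (Spec.map g ≫ G.R.isoSpec.inv) ≫ G.s := by
    rw [specMap_isoSpec_inv_comp, specMap_isoSpec_inv_comp]
    congr 2
    ext a
    exact hσ a
  have ht : (Spec.map f ≫ G.R.isoSpec.inv) ≫ G.t = (Spec.map g ≫ G.R.isoSpec.inv) ≫ G.t := by
    rw [specMap_isoSpec_inv_comp, specMap_isoSpec_inv_comp]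
    congr 2
    ext a
    exact hτ a
  have hj : (Spec.map f ≫ G.R.isoSpec.inv) ≫ G.j = (Spec.map g ≫ G.R.isoSpec.inv) ≫ G.j := by
    apply pullback.hom_ext
    · simp only [Category.assoc, GroupoidScheme.j, pullback.lift_fst]
      simpa only [Category.assoc] using ht
    · simp only [Category.assoc, GroupoidScheme.j, pullback.lift_snd]
      simpa only [Category.assoc] using hs
  have h1 := (cancel_mono G.j).mp hj
  have h2 := (cancel_mono G.R.isoSpec.inv).mp h1
  exact Spec.map_injective h2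

theorem stMap_surjective [Mono G.j] [IsFinite G.s] : Function.Surjective (stMap G) := by
  haveI := epi_stMap G
  have hfin : (stMap G).Finite := by
    have h1 : (σ G).Finite := G.s.finite_appTop
    have e : (stMap G).comp
        (Algebra.TensorProduct.includeLeftRingHom : Γ(G.U, ⊤) →+* Γ(G.U, ⊤) ⊗[ℤ] Γ(G.U, ⊤)) =
        σ G := by
      ext a
      simp
    rw [← e] at h1
    exact RingHom.Finite.of_comp_finite h1
  exact RingHom.surjective_of_epi_of_finite (CommRingCat.ofHom (stMap G)) hfin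

theorem gen_of_mono [Mono G.j] [IsFinite G.s] (b : Γ(G.R, ⊤)) :
    b ∈ AddSubmonoid.closure {y : Γ(G.R, ⊤) | ∃ a a', σ G a * τ G a' = y} := by
  obtain ⟨z, rfl⟩ := stMap_surjective G b
  induction z using TensorProduct.induction_on with
  | zero =>
    rw [map_zero]
    exact zero_mem _
  | tmul a a' =>
    rw [stMap_tmul]
    exact AddSubmonoid.subset_closure ⟨a, a', rfl⟩
  | add x y hx hy =>
    rw [map_add]
    exact add_mem hx hy

section

variable [IsFinite G.s] [Flat G.s] [LocallyOfFinitePresentation G.s] [Mono G.j]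

theorem hyp_aGrpd : letI := algB G; letI := algE G; (aGrpd G).Hyp := by
  letI := algB G
  letI := algE G
  exact
    { inj := Subtype.val_injective
      ex := hex_aGrpd G
      dual := exists_dualBasis_σ G
      gen := gen_of_mono G }

theorem concl_aGrpd : letI := algB G; letI := algE G; (aGrpd G).Concl := by
  letI := algB G
  letI := algE G
  exact (hyp_aGrpd G).concl

end

end Groth.Agent.H40.FG
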