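import Groth.Agent.H40.FG.DualBasisBC
import Groth.Agent.H6.GrpdCalc
import Mathlib.AlgebraicGeometry.Morphisms.Affine
import Mathlib.LinearAlgebra.Matrix.Charpoly.Coeff

/-!
# Finite locally free groupoids on affine schemes: invariance of characteristic polynomials
-/

set_option autoImplicit false
set_option backward.isDefEq.respectTransparency.types false
universe u

open CategoryTheory CategoryTheory.Limits AlgebraicGeometry Grpd Matrix Polynomial

namespace Groth.Agent.H40.FG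

open Groth.Agent.H6

variable {S : Scheme.{u}} (G : GroupoidScheme S)

theorem c_t : G.c ≫ G.t = pullback.fst G.s G.t ≫ G.t := by
  have h := G.comp_t (pullback.fst G.s G.t) (pullback.snd G.s G.t) pullback.condition
  have e : pullback.lift (pullback.fst G.s G.t) (pullback.snd G.s G.t) pullback.condition =
      𝟙 _ := by
    apply pullback.hom_ext <;> simp
  rwa [e, Category.id_comp] at h

theorem c_s : G.c ≫ G.s = pullback.snd G.s G.t ≫ G.s := by
  have h := G.comp_s (pullback.fst G.s G.t) (pullback.snd G.s G.t) pullback.condition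
  have e : pullback.lift (pullback.fst G.s G.t) (pullback.snd G.s G.t) pullback.condition =
      𝟙 _ := by
    apply pullback.hom_ext <;> simp
  rwa [e, Category.id_comp] at h

/-- the shear square: `(α, β) ↦ (α ∘ β, β)` identifies `R ×_{s,t} R` with `R ×_{s,s} R`. -/
theorem isPullback_c_snd : IsPullback G.c (pullback.snd G.s G.t) G.s G.s := by
  refine ⟨⟨c_s G⟩, ⟨PullbackCone.IsLimit.mk _ (fun s => ?_) ?_ ?_ ?_⟩⟩
  · -- the lift: `(γ, β) ↦ (γ ∘ β⁻¹, β)`
    have h1 : s.fst ≫ G.s = (s.snd ≫ G.i) ≫ G.t := by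
      rw [Category.assoc, G.i_t, s.condition]
    have h2 : GrpdCalc.comp G s.fst (s.snd ≫ G.i) h1 ≫ G.s = s.snd ≫ G.t := by
      rw [GrpdCalc.comp_s, Category.assoc, G.i_s]
    exact pullback.lift (GrpdCalc.comp G s.fst (s.snd ≫ G.i) h1) s.snd h2
  · intro s
    have h1 : s.fst ≫ G.s = (s.snd ≫ G.i) ≫ G.t := by
      rw [Category.assoc, G.i_t, s.condition]
    have h2 : GrpdCalc.comp G s.fst (s.snd ≫ G.i) h1 ≫ G.s = s.snd ≫ G.t := by
      rw [GrpdCalc.comp_s, Category.assoc, G.i_s]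
    exact GrpdCalc.comp_inv_comp' G s.fst s.snd s.condition h1 h2
  · intro s
    exact pullback.lift_snd _ _ _
  · intro s m hm1 hm2
    have h1 : s.fst ≫ G.s = (s.snd ≫ G.i) ≫ G.t := by
      rw [Category.assoc, G.i_t, s.condition]
    apply pullback.hom_ext
    · rw [pullback.lift_fst]
      have e := GrpdCalc.lift_comp_c G m
      rw [hm1] at e
      have hα : (m ≫ pullback.fst G.s G.t) ≫ G.s = (m ≫ pullback.snd G.s G.t) ≫ G.t := by
        rw [Category.assoc, Category.assoc, pullback.condition]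
      have h3 : GrpdCalc.comp G (m ≫ pullback.fst G.s G.t) (m ≫ pullback.snd G.s G.t) hα ≫ G.s =
          ((m ≫ pullback.snd G.s G.t) ≫ G.i) ≫ G.t := by
        rw [GrpdCalc.comp_s, Category.assoc _ G.i, G.i_t]
      have key := GrpdCalc.comp_comp_inv G (m ≫ pullback.fst G.s G.t)
        (m ≫ pullback.snd G.s G.t) hα h3
      rw [← key]
      apply GrpdCalc.comp_congr
      · exact e.symm
      · rw [hm2]
    · rw [pullback.lift_snd, hm2]

variable [IsAffine G.U] [IsAffine G.R]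

/-- `s♯`. -/
noncomputable abbrev σ : Γ(G.U, ⊤) →+* Γ(G.R, ⊤) := G.s.appTop.hom
/-- `t♯`. -/
noncomputable abbrev τ : Γ(G.U, ⊤) →+* Γ(G.R, ⊤) := G.t.appTop.hom
/-- `e♯`. -/
noncomputable abbrev ε : Γ(G.R, ⊤) →+* Γ(G.U, ⊤) := G.e.appTop.hom

theorem ε_σ (a : Γ(G.U, ⊤)) : ε G (σ G a) = a := by
  have h : (G.e ≫ G.s).appTop = (𝟙 G.U : G.U ⟶ G.U).appTop := by rw [G.e_s]
  rw [Scheme.Hom.comp_appTop, Scheme.Hom.id_appTop] at h
  exact congrArg (fun φ => φ.hom a) h

theorem ε_τ (a : Γ(G.U, ⊤)) : ε G (τ G a) = a := by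
  have h : (G.e ≫ G.t).appTop = (𝟙 G.U : G.U ⟶ G.U).appTop := by rw [G.e_t]
  rw [Scheme.Hom.comp_appTop, Scheme.Hom.id_appTop] at h
  exact congrArg (fun φ => φ.hom a) h

theorem mem_invariants_iff (a : Γ(G.U, ⊤)) : a ∈ G.invariants ↔ σ G a = τ G a := Iff.rfl

/-- base change of a dual basis along a pullback square of affine schemes. -/
theorem exists_dualBasis_of_isPullback {X Y Z P : Scheme.{u}} [IsAffine X] [IsAffine Y]
    [IsAffine Z] {fst : P ⟶ X} {snd : P ⟶ Y} {f : X ⟶ Z} {g : Y ⟶ Z}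
    (h : IsPullback fst snd f g) {n : ℕ} (D : DualBasis g.appTop.hom n) :
    ∃ D' : DualBasis fst.appTop.hom n, ∀ b, D'.mat (snd.appTop.hom b) =
      (D.mat b).map f.appTop.hom := by
  have hpo := isPushout_appTop_of_isPullback h
  obtain ⟨D', h1, h2⟩ := DualBasis.exists_baseChange g.appTop.hom f.appTop.hom snd.appTop.hom
    fst.appTop.hom hpo D
  exact ⟨D', fun b => DualBasis.mat_baseChange _ _ D D' h1 h2 b⟩

theorem exists_dualBasis_fst {n : ℕ} (D : DualBasis (σ G) n) :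
    ∃ D' : DualBasis (pullback.snd G.s G.t).appTop.hom n,
      ∀ b, D'.mat ((pullback.fst G.s G.t).appTop.hom b) = (D.mat b).map (τ G) :=
  exists_dualBasis_of_isPullback (IsPullback.of_hasPullback G.s G.t).flip D

theorem exists_dualBasis_c {n : ℕ} (D : DualBasis (σ G) n) :
    ∃ D' : DualBasis (pullback.snd G.s G.t).appTop.hom n,
      ∀ b, D'.mat (G.c.appTop.hom b) = (D.mat b).map (σ G) :=
  exists_dualBasis_of_isPullback (isPullback_c_snd G).flip D

theorem c_appTop_τ (a : Γ(G.U, ⊤)) :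
    G.c.appTop.hom (τ G a) = (pullback.fst G.s G.t).appTop.hom (τ G a) := by
  have h : (G.c ≫ G.t).appTop = (pullback.fst G.s G.t ≫ G.t).appTop := by rw [c_t]
  rw [Scheme.Hom.comp_appTop, Scheme.Hom.comp_appTop] at h
  exact congrArg (fun φ => φ.hom a) h

/-- the characteristic polynomial of `t♯ a` (with respect to `s♯`) has invariant coefficients. -/
theorem charpoly_map_σ_eq_map_τ {n : ℕ} (D : DualBasis (σ G) n) (a : Γ(G.U, ⊤)) :
    (D.mat (τ G a)).charpoly.map (σ G) = (D.mat (τ G a)).charpoly.map (τ G) := by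
  obtain ⟨D₁, h₁⟩ := exists_dualBasis_fst G D
  obtain ⟨D₂, h₂⟩ := exists_dualBasis_c G D
  rw [← Matrix.charpoly_map, ← Matrix.charpoly_map, ← h₁, ← h₂, c_appTop_τ]
  exact D₂.charpoly_mat_eq D₁ _

theorem det_mat_invariant {n : ℕ} (D : DualBasis (σ G) n) (a : Γ(G.U, ⊤)) :
    σ G (D.mat (τ G a)).det = τ G (D.mat (τ G a)).det := by
  obtain ⟨D₁, h₁⟩ := exists_dualBasis_fst G D
  obtain ⟨D₂, h₂⟩ := exists_dualBasis_c G D
  rw [RingHom.map_det, RingHom.map_det, RingHom.mapMatrix_apply, RingHom.mapMatrix_apply,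
    ← h₁, ← h₂, c_appTop_τ]
  exact D₂.det_mat_eq D₁ _

theorem nm_invariant {n : ℕ} (D : DualBasis (σ G) n) (a : Γ(G.U, ⊤)) :
    σ G (D.nm (τ G a)) = τ G (D.nm (τ G a)) := by
  obtain ⟨D₁, h₁⟩ := exists_dualBasis_fst G D
  obtain ⟨D₂, h₂⟩ := exists_dualBasis_c G D
  have e1 : σ G (D.nm (τ G a)) = D₂.nm (G.c.appTop.hom (τ G a)) := by
    unfold DualBasis.nm
    rw [RingHom.map_det, map_add, map_one, RingHom.mapMatrix_apply, ← h₂, map_sub, map_one]
  have e2 : τ G (D.nm (τ G a)) = D₁.nm ((pullback.fst G.s G.t).appTop.hom (τ G a)) := by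
    unfold DualBasis.nm
    rw [RingHom.map_det, map_add, map_one, RingHom.mapMatrix_apply, ← h₁, map_sub, map_one]
  rw [e1, e2, c_appTop_τ]
  exact D₂.nm_eq D₁ _

end Groth.Agent.H40.FG
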