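import Mathlib.LinearAlgebra.Matrix.Charpoly.Coeff
import Mathlib.Algebra.Polynomial.AlgebraMap
import Mathlib.Algebra.Polynomial.Eval.Coeff

/-!
# The rank polynomial of an idempotent matrix

For an idempotent matrix `Π` the function `t ↦ det (1 + (t - 1) • Π)` is multiplicative and given by
a polynomial `∑ e_r t^r` whose coefficients are orthogonal idempotents with sum `1` (`e_r` cuts out
the locus where `Π` has rank `r`).
-/

set_option autoImplicit false
universe u v

open Polynomial Matrix

namespace Groth.Agent.H40.FG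

variable {A : Type u} [CommRing A] {n : ℕ}

/-- `det (1 + (t - 1) • Π)`. -/
def rdet (P : Matrix (Fin n) (Fin n) A) (t : A) : A := (1 + (t - 1) • P).det

theorem rdet_mul {P : Matrix (Fin n) (Fin n) A} (hP : P * P = P) (s t : A) :
    rdet P (s * t) = rdet P s * rdet P t := by
  unfold rdet
  rw [← Matrix.det_mul]
  congr 1
  rw [add_mul, mul_add, mul_add, one_mul, mul_one, one_mul, smul_mul_smul_comm, hP]
  rw [add_assoc, ← add_assoc ((t - 1) • P), ← add_smul, ← add_smul]
  congr 2
  ring

theorem rdet_one (P : Matrix (Fin n) (Fin n) A) : rdet P 1 = 1 := by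
  simp [rdet]

theorem rdet_map {R : Type v} [CommRing R] (φ : A →+* R) (P : Matrix (Fin n) (Fin n) A) (t : A) :
    φ (rdet P t) = rdet (P.map φ) (φ t) := by
  unfold rdet
  rw [RingHom.map_det]
  congr 1
  ext i j
  simp [Matrix.add_apply, Matrix.one_apply, apply_ite φ]

/-- the rank polynomial `det (1 + (X - 1) • Π)`. -/
noncomputable def rankPoly (P : Matrix (Fin n) (Fin n) A) : A[X] := rdet (P.map C) X

theorem eval₂_rankPoly {R : Type v} [CommRing R] (φ : A →+* R) (P : Matrix (Fin n) (Fin n) A)
    (t : R) : (rankPoly P).eval₂ φ t = rdet (P.map φ) t := by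
  have h := rdet_map (Polynomial.eval₂RingHom φ t) (P.map C) X
  rw [Polynomial.coe_eval₂RingHom, Polynomial.eval₂_X] at h
  rw [rankPoly, h]
  congr 1
  ext i j
  simp

theorem map_mul_self {R : Type v} [CommRing R] (φ : A →+* R) {P : Matrix (Fin n) (Fin n) A}
    (hP : P * P = P) : P.map φ * P.map φ = P.map φ := by
  rw [← Matrix.map_mul, hP]

theorem coeff_eval₂_CX_mul_X (q : A[X]) (j : ℕ) :
    (q.eval₂ ((C : A[X] →+* A[X][X]).comp C) ((C X : A[X][X]) * X)).coeff j =
      C (q.coeff j) * X ^ j := by
  induction q using Polynomial.induction_on' with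
  | add p q hp hq => rw [Polynomial.eval₂_add, Polynomial.coeff_add, hp, hq, Polynomial.coeff_add,
      map_add, add_mul]
  | monomial r a =>
    rw [Polynomial.eval₂_monomial, mul_pow, ← map_pow, RingHom.comp_apply, ← mul_assoc, ← map_mul,
      Polynomial.coeff_C_mul_X_pow, Polynomial.coeff_monomial]
    by_cases h : j = r
    · subst h
      simp
    · rw [if_neg h, if_neg (fun h' => h h'.symm), map_zero, zero_mul]

/-- the coefficients of the rank polynomial are orthogonal idempotents. -/
theorem coeff_rankPoly_mul_coeff {P : Matrix (Fin n) (Fin n) A} (hP : P * P = P) (i j : ℕ) :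
    (rankPoly P).coeff i * (rankPoly P).coeff j = if i = j then (rankPoly P).coeff j else 0 := by
  set q := rankPoly P with hq
  have h1 := rdet_mul (map_mul_self ((C : A[X] →+* A[X][X]).comp C) hP) (C X : A[X][X]) X
  rw [← eval₂_rankPoly, ← eval₂_rankPoly, ← eval₂_rankPoly, ← hq] at h1
  have e1 : q.eval₂ ((C : A[X] →+* A[X][X]).comp C) (C X : A[X][X]) = C q := by
    have := Polynomial.hom_eval₂ q (C : A →+* A[X]) (C : A[X] →+* A[X][X]) X
    rw [Polynomial.eval₂_C_X] at this
    exact this.symm
  have e2 : q.eval₂ ((C : A[X] →+* A[X][X]).comp C) (X : A[X][X]) = q.map C := by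
    have := Polynomial.eval₂_map (p := q) (C : A →+* A[X]) (C : A[X] →+* A[X][X]) X
    rw [Polynomial.eval₂_C_X] at this
    exact this.symm
  rw [e1, e2] at h1
  have h2 := congrArg (fun p => p.coeff j) h1
  simp only [coeff_eval₂_CX_mul_X, Polynomial.coeff_C_mul, Polynomial.coeff_map] at h2
  have h3 := congrArg (fun p => p.coeff i) h2
  simp only [Polynomial.coeff_C_mul_X_pow, Polynomial.coeff_mul_C] at h3
  rw [← h3]

theorem sum_coeff_rankPoly (P : Matrix (Fin n) (Fin n) A) :
    ∑ r ∈ Finset.range ((rankPoly P).natDegree + 1), (rankPoly P).coeff r = 1 := by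
  have h := eval₂_rankPoly (RingHom.id A) P 1
  rw [Polynomial.eval₂_eq_sum_range] at h
  simp only [RingHom.id_apply, one_pow, mul_one] at h
  rw [h]
  have : P.map (RingHom.id A) = P := by
    ext i j
    simp
  rw [this, rdet_one]

theorem coeff_zero_rankPoly (P : Matrix (Fin n) (Fin n) A) :
    (rankPoly P).coeff 0 = (1 - P).det := by
  have h := eval₂_rankPoly (RingHom.id A) P 0
  rw [Polynomial.eval₂_at_zero, RingHom.id_apply] at h
  rw [h]
  have : P.map (RingHom.id A) = P := by
    ext i j
    simp
  rw [this, rdet]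
  congr 1
  rw [zero_sub, neg_smul, one_smul, sub_eq_add_neg]

/-- a weighted power sum with orthogonal idempotent weights: extraction of a pure power. -/
theorem sum_idem_mul_pow {R : Type v} [CommRing R] (E : ℕ → R) (d : ℕ)
    (hE : ∀ i j, E i * E j = if i = j then E j else 0)
    (hsum : ∑ r ∈ Finset.range (d + 1), E r = 1) (h0 : E 0 = 0) (g Q : R)
    (hQ : Q = ∑ r ∈ Finset.range (d + 1), E r * g ^ r) :
    ∑ r ∈ Finset.range (d + 1), E r * Q ^ (d.factorial / r) = g ^ d.factorial := by
  have key : ∀ r ∈ Finset.range (d + 1), E r * Q = E r * g ^ r := by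
    intro r hr
    rw [hQ, Finset.mul_sum]
    rw [Finset.sum_eq_single r]
    · rw [← mul_assoc, hE, if_pos rfl]
    · intro s _ hs
      rw [← mul_assoc, hE, if_neg (fun h => hs h.symm), zero_mul]
    · intro h
      exact absurd hr h
  have pw : ∀ r ∈ Finset.range (d + 1), ∀ m : ℕ, E r * Q ^ m = E r * g ^ (r * m) := by
    intro r hr m
    induction m with
    | zero => simp
    | succ m ih =>
      rw [pow_succ, ← mul_assoc, ih, mul_right_comm, key r hr, mul_right_comm, mul_assoc,
        ← pow_add, Nat.mul_succ, add_comm]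
  have : ∀ r ∈ Finset.range (d + 1), E r * Q ^ (d.factorial / r) = E r * g ^ d.factorial := by
    intro r hr
    rcases Nat.eq_zero_or_pos r with rfl | hpos
    · rw [h0, zero_mul, zero_mul]
    · rw [pw r hr, Nat.mul_div_cancel' (Nat.dvd_factorial hpos
        (Nat.lt_succ_iff.mp (Finset.mem_range.mp hr)))]
  rw [Finset.sum_congr rfl this, ← Finset.sum_mul, hsum, one_mul]

end Groth.Agent.H40.FG
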