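import Groth.Agent.H40.FG.DualBasis
import Mathlib.FieldTheory.IsAlgClosed.Basic
import Mathlib.FieldTheory.IntermediateField.Adjoin.Basic
import Mathlib.RingTheory.Ideal.Quotient.Operations

/-!
# Finite algebras over an algebraically closed field: roots of characteristic polynomials are
values of points
-/

set_option autoImplicit false
universe u

open Matrix Polynomial

namespace Groth.Agent.H40.FG

namespace DualBasis

variable {k B : Type u} [Field k] [CommRing B] {ι : k →+* B} {n : ℕ} (D : DualBasis ι n)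

include D in
theorem moduleFinite : letI := ι.toAlgebra; Module.Finite k B := by
  letI := ι.toAlgebra
  refine Module.Finite.of_surjective (Fintype.linearCombination k D.g) (fun b => ?_)
  refine ⟨fun j => D.c j b, ?_⟩
  rw [Fintype.linearCombination_apply]
  conv_rhs => rw [← D.sum_eq b]
  refine Finset.sum_congr rfl fun j _ => ?_
  rw [Algebra.smul_def]
  rfl

include D in
/-- a finite algebra over a field has finitely many rational points. -/
theorem finite_sections : Finite {ρ : B →+* k // ρ.comp ι = RingHom.id k} := by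
  letI := ι.toAlgebra
  haveI := D.moduleFinite
  let φ : {ρ : B →+* k // ρ.comp ι = RingHom.id k} → (B →ₐ[k] k) := fun ρ =>
    { toRingHom := ρ.1
      commutes' := fun c => RingHom.congr_fun ρ.2 c }
  refine Finite.of_injective φ (fun ρ ρ' h => ?_)
  apply Subtype.ext
  ext b
  exact congrArg (fun ψ : B →ₐ[k] k => ψ b) h

theorem mat_mul_mat_one (b : B) : D.mat b * D.mat 1 = D.mat b := by
  rw [← D.mat_mul, mul_one]

/-- a nonzero root `μ` of the characteristic polynomial of `b`: `b - μ` is not a unit. -/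
theorem not_isUnit_of_isRoot (b : B) (μ : k) (hμ : μ ≠ 0)
    (hroot : (D.mat b).charpoly.eval μ = 0) : ¬ IsUnit (b - ι μ) := by
  rintro ⟨u, hu⟩
  have hu1 : (b - ι μ) * (↑u⁻¹ : B) = 1 := by rw [← hu]; exact u.mul_inv
  set v : B := (↑u⁻¹ : B)
  rw [Matrix.eval_charpoly] at hroot
  have hsc : Matrix.scalar (Fin n) μ = μ • (1 : Matrix (Fin n) (Fin n) k) := by
    rw [Matrix.smul_one_eq_diagonal]
    rfl
  have h1 : D.mat b * D.mat v - μ • D.mat v = D.mat 1 := by
    rw [← D.mat_mul, ← D.mat_smul, ← D.mat_sub, ← sub_mul, hu1]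
  have key : (Matrix.scalar (Fin n) μ - D.mat b) *
      (μ⁻¹ • (1 - D.mat 1) - D.mat v) = 1 := by
    rw [hsc]
    have e1 : (μ • (1 : Matrix (Fin n) (Fin n) k)) * (μ⁻¹ • (1 - D.mat 1)) = 1 - D.mat 1 := by
      rw [smul_mul_assoc, one_mul, smul_smul, mul_inv_cancel₀ hμ, one_smul]
    have e2 : (μ • (1 : Matrix (Fin n) (Fin n) k)) * D.mat v = μ • D.mat v := by
      rw [smul_mul_assoc, one_mul]
    have e3 : D.mat b * (μ⁻¹ • (1 - D.mat 1)) = 0 := by
      rw [mul_smul_comm, mul_sub, mul_one, D.mat_mul_mat_one, sub_self, smul_zero]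
    rw [sub_mul, mul_sub, mul_sub, e1, e2, e3]
    rw [← h1]
    abel
  have hdet := congrArg Matrix.det key
  rw [Matrix.det_mul, hroot, zero_mul, Matrix.det_one] at hdet
  exact zero_ne_one hdet

/-- over an algebraically closed field, the roots of the characteristic polynomial of `b` are `0`
or the values of `b` at the rational points. -/
theorem exists_section_of_isRoot [IsAlgClosed k] (b : B) (μ : k)
    (hroot : (D.mat b).charpoly.eval μ = 0) :
    μ = 0 ∨ ∃ ρ : B →+* k, ρ.comp ι = RingHom.id k ∧ ρ b = μ := by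
  by_cases hμ : μ = 0
  · exact Or.inl hμ
  right
  have hnu := D.not_isUnit_of_isRoot b μ hμ hroot
  obtain ⟨m, hm, hmem⟩ := exists_max_ideal_of_mem_nonunits hnu
  letI := ι.toAlgebra
  haveI := D.moduleFinite
  letI : Field (B ⧸ m) := Ideal.Quotient.field m
  haveI : Algebra.IsIntegral k (B ⧸ m) := Algebra.IsIntegral.of_finite k (B ⧸ m)
  have hbij : Function.Bijective (algebraMap k (B ⧸ m)) :=
    IsAlgClosed.algebraMap_bijective_of_isIntegral
  let e : k ≃+* (B ⧸ m) := RingEquiv.ofBijective (algebraMap k (B ⧸ m)) hbij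
  refine ⟨(e.symm : (B ⧸ m) →+* k).comp (Ideal.Quotient.mk m), ?_, ?_⟩
  · ext c
    change e.symm (Ideal.Quotient.mk m (ι c)) = c
    rw [RingEquiv.symm_apply_eq]
    rfl
  · change e.symm (Ideal.Quotient.mk m b) = μ
    rw [RingEquiv.symm_apply_eq]
    change Ideal.Quotient.mk m b = Ideal.Quotient.mk m (ι μ)
    rw [Ideal.Quotient.eq]
    exact hmem

end DualBasis

end Groth.Agent.H40.FG
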