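import Groth.Agent.H40.FG.Norm
import Groth.Agent.H40.FG.RankPoly
import Groth.Agent.H40.FG.Roots
import Mathlib.LinearAlgebra.Dimension.Free

/-!
# The rank polynomial does not depend on the dual basis; over a field it computes the dimension
-/

set_option autoImplicit false
set_option backward.isDefEq.respectTransparency.types false
universe u

open Matrix Polynomial

namespace Groth.Agent.H40.FG

namespace DualBasis

variable {A B : Type u} [CommRing A] [CommRing B] {f : A →+* B}

/-- the rank polynomial is independent of the dual basis (of any size). -/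
theorem rankPoly_mat_one_eq {n n' : ℕ} (D : DualBasis f n) (D' : DualBasis f n') :
    rankPoly (D.mat 1) = rankPoly (D'.mat 1) := by
  let X₀ : Matrix (Fin n) (Fin n') A := fun j k => D.c j (D'.g k)
  let Y₀ : Matrix (Fin n') (Fin n) A := fun k l => D'.c k (D.g l)
  have h1 : D.mat 1 = X₀ * Y₀ := by
    ext j l
    simp only [mat_apply, Matrix.mul_apply, X₀, Y₀, one_mul]
    conv_lhs => rw [← D'.sum_eq (D.g l), D.c_sum]
    refine Finset.sum_congr rfl fun k _ => ?_
    rw [D.c_smul, mul_comm]
  have h2 : D'.mat 1 = Y₀ * X₀ := by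
    ext k l
    simp only [mat_apply, Matrix.mul_apply, X₀, Y₀, one_mul]
    conv_lhs => rw [← D.sum_eq (D'.g l), D'.c_sum]
    refine Finset.sum_congr rfl fun j _ => ?_
    rw [D'.c_smul, mul_comm]
  unfold rankPoly rdet
  rw [h1, h2, Matrix.map_mul, Matrix.map_mul, ← Matrix.smul_mul, Matrix.det_one_add_mul_comm,
    Matrix.mul_smul]

theorem rankPoly_one (n : ℕ) : rankPoly (1 : Matrix (Fin n) (Fin n) A) = X ^ n := by
  unfold rankPoly rdet
  have : (1 : Matrix (Fin n) (Fin n) A).map (C : A →+* A[X]) = 1 := by
    ext i j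
    simp [Matrix.one_apply, apply_ite (C : A →+* A[X])]
  have e : (1 : Matrix (Fin n) (Fin n) A[X]) + ((X : A[X]) - 1) • (1 : Matrix (Fin n) (Fin n) A[X]) =
      (X : A[X]) • (1 : Matrix (Fin n) (Fin n) A[X]) := by
    rw [sub_smul, one_smul]
    abel
  rw [this, e, Matrix.det_smul, Matrix.det_one, mul_one, Fintype.card_fin]

theorem mat_one_dualBasisOfBasis {n : ℕ} (b : letI := f.toAlgebra; Module.Basis (Fin n) A B) :
    (dualBasisOfBasis f b).mat 1 = 1 := by
  letI := f.toAlgebra
  ext j k
  rw [DualBasis.mat_apply, one_mul]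
  change b.repr (b k) j = _
  rw [b.repr_self, Finsupp.single_apply, Matrix.one_apply]
  simp [eq_comm]

/-- over a field, the rank polynomial `X ^ r` means dimension `r`. -/
theorem finrank_eq_of_rankPoly {k V : Type u} [Field k] [CommRing V] {ι : k →+* V} {n : ℕ}
    (D : DualBasis ι n) {r : ℕ} (h : rankPoly (D.mat 1) = X ^ r) :
    (letI := ι.toAlgebra; Module.finrank k V) = r := by
  letI := ι.toAlgebra
  haveI := D.moduleFinite
  let bV := Module.finBasis k V
  have h1 := D.rankPoly_mat_one_eq (dualBasisOfBasis ι bV)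
  rw [mat_one_dualBasisOfBasis, rankPoly_one, h] at h1
  have := congrArg Polynomial.natDegree h1
  rw [Polynomial.natDegree_X_pow, Polynomial.natDegree_X_pow] at this
  exact this.symm

end DualBasis

end Groth.Agent.H40.FG
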