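import Groth.Agent.H40.FG.AGrpd
import Groth.Agent.H40.FG.RankBasis

/-!
# Linear independence at a point, in coordinates of a dual basis

`D.IndepAt ξ y`: the columns `(ξ (c i (y j)))_i` are linearly independent.  This does not depend on
the dual basis, and for a groupoid it is transported along arrows.
-/

set_option autoImplicit false
set_option backward.isDefEq.respectTransparency.types false
universe u

open CategoryTheory CategoryTheory.Limits Matrix Polynomial

namespace Groth.Agent.H40.FG

namespace DualBasis

variable {A B : Type u} [CommRing A] [CommRing B] {f : A →+* B}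

/-- the columns `(ξ (c i (y j)))_i`, `j ∈ I`, are linearly independent over `k`. -/
def IndepAt {n : ℕ} (D : DualBasis f n) {k : Type u} [CommRing k] (ξ : A →+* k) {I : Type u}
    [Fintype I] (y : I → B) : Prop :=
  ∀ v : I → k, (∀ i, ∑ j, ξ (D.c i (y j)) * v j = 0) → v = 0

theorem IndepAt.of_dualBasis {n n' : ℕ} (D : DualBasis f n) (D' : DualBasis f n') {k : Type u}
    [CommRing k] {ξ : A →+* k} {I : Type u} [Fintype I] {y : I → B} (h : D'.IndepAt ξ y) :
    D.IndepAt ξ y := by
  intro v hv
  apply h v
  intro l
  have e : ∀ j, D'.c l (y j) = ∑ i, D.c i (y j) * D'.c l (D.g i) := by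
    intro j
    conv_lhs => rw [← D.sum_eq (y j), D'.c_sum]
    refine Finset.sum_congr rfl fun i _ => ?_
    rw [D'.c_smul]
  calc ∑ j, ξ (D'.c l (y j)) * v j
      = ∑ j, ∑ i, ξ (D'.c l (D.g i)) * (ξ (D.c i (y j)) * v j) := by
        refine Finset.sum_congr rfl fun j _ => ?_
        rw [e j, map_sum, Finset.sum_mul]
        refine Finset.sum_congr rfl fun i _ => ?_
        rw [map_mul]
        ring
    _ = ∑ i, ξ (D'.c l (D.g i)) * ∑ j, ξ (D.c i (y j)) * v j := by
        rw [Finset.sum_comm]
        refine Finset.sum_congr rfl fun i _ => ?_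
        rw [Finset.mul_sum]
    _ = 0 := by
        refine Finset.sum_eq_zero fun i _ => ?_
        rw [hv i, mul_zero]

/-- independence goes down along an injective map of coefficient rings. -/
theorem IndepAt.of_comp {n : ℕ} (D : DualBasis f n) {k k' : Type u} [CommRing k] [CommRing k']
    {ξ : A →+* k} (ι : k →+* k') (hι : Function.Injective ι) {I : Type u} [Fintype I] {y : I → B}
    (h : D.IndepAt (ι.comp ξ) y) : D.IndepAt ξ y := by
  intro v hv
  have := h (fun j => ι (v j)) (fun i => by
    have := congrArg ι (hv i)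
    rw [map_sum, map_zero] at this
    simp only [map_mul] at this
    exact this)
  funext j
  apply hι
  have e := congrFun this j
  simp only [Pi.zero_apply] at e ⊢
  rw [e, map_zero]

end DualBasis

namespace AGrpd

variable {K A B E : Type u} [CommRing K] [CommRing A] [CommRing B] [CommRing E]
    [Algebra K A] [Algebra K B] [Algebra K E] (H : AGrpd K A B E)

/-- independence of `τ x` in the fibres of `σ` is transported along an arrow `ρ` of the groupoid
from its source to its target. -/
theorem indepAt_τ_of_σ {n : ℕ} (D : DualBasis H.σ.toRingHom n) {k : Type u} [CommRing k]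
    (ρ : B →+* k) {I : Type u} [Fintype I] (x : I → A)
    (h : D.IndepAt (ρ.comp H.σ.toRingHom) (fun j => H.τ (x j))) :
    D.IndepAt (ρ.comp H.τ.toRingHom) (fun j => H.τ (x j)) := by
  obtain ⟨D₁, -, hc₁⟩ := DualBasis.exists_baseChange H.σ.toRingHom H.τ.toRingHom H.p₀.toRingHom
    H.p₁.toRingHom H.po₁ D
  obtain ⟨D₂, -, hc₂⟩ := DualBasis.exists_baseChange H.σ.toRingHom H.σ.toRingHom H.γ.toRingHom
    H.p₁.toRingHom H.po₂ D
  have h2 : D₂.IndepAt ρ (fun j => H.γ (H.τ (x j))) := by
    intro v hv
    apply h v
    intro i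
    have := hv i
    simp only [RingHom.comp_apply]
    have e : ∀ j, D₂.c i (H.γ (H.τ (x j))) = H.σ (D.c i (H.τ (x j))) := fun j => hc₂ i _
    simp only [e] at this
    exact this
  have h1 : D₁.IndepAt ρ (fun j => H.p₀ (H.τ (x j))) := by
    have e : (fun j => H.p₀ (H.τ (x j))) = (fun j => H.γ (H.τ (x j))) := by
      funext j
      rw [H.γ_τ]
    rw [e]
    exact DualBasis.IndepAt.of_dualBasis D₁ D₂ h2
  intro v hv
  apply h1 v
  intro i
  have := hv i
  simp only [RingHom.comp_apply] at this
  have e : ∀ j, D₁.c i (H.p₀ (H.τ (x j))) = H.τ (D.c i (H.τ (x j))) := fun j => hc₁ i _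
  simp only [e]
  exact this

end AGrpd

end Groth.Agent.H40.FG
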