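import Groth.Agent.H40.FG.Norm
import Mathlib.AlgebraicGeometry.Morphisms.Finite
import Mathlib.AlgebraicGeometry.Morphisms.Flat
import Mathlib.AlgebraicGeometry.Morphisms.FinitePresentation
import Mathlib.RingTheory.Finiteness.ModuleFinitePresentation
import Mathlib.RingTheory.Flat.EquationalCriterion
import Mathlib.Algebra.Polynomial.Lifts

/-!
# Functions on the objects of a finite locally free affine groupoid are integral over the invariants
-/

set_option autoImplicit false
set_option backward.isDefEq.respectTransparency.types false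
universe u

open CategoryTheory CategoryTheory.Limits AlgebraicGeometry Grpd Matrix Polynomial

namespace Groth.Agent.H40.FG

variable {S : Scheme.{u}} (G : GroupoidScheme S) [IsAffine G.U] [IsAffine G.R]

/-- `Γ(R)` has a dual basis over `Γ(U)` through `s♯` when `s` is finite locally free. -/
theorem exists_dualBasis_σ [IsFinite G.s] [Flat G.s] [LocallyOfFinitePresentation G.s] :
    ∃ n : ℕ, Nonempty (DualBasis (σ G) n) := by
  have h1 : (σ G).Finite := G.s.finite_appTop
  have h2 : (σ G).Flat := G.s.flat_appTop
  have h3 : (σ G).FinitePresentation := G.s.finitePresentation_appTop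
  apply exists_dualBasis
  · exact h1
  · algebraize [σ G]
    haveI : Module.FinitePresentation Γ(G.U, ⊤) Γ(G.R, ⊤) :=
      Module.FinitePresentation.of_finite_of_finitePresentation _ _
    exact Module.Flat.projective_of_finitePresentation

/-- the characteristic polynomial of `t♯ a` kills `a`. -/
theorem eval_charpoly_eq_zero {n : ℕ} (D : DualBasis (σ G) n) (a : Γ(G.U, ⊤)) :
    (D.mat (τ G a)).charpoly.eval a = 0 := by
  have h := D.eval₂_charpoly (τ G a)
  have h2 := congrArg (ε G) h
  rw [Polynomial.hom_eval₂, map_zero, ε_τ] at h2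
  have e : (ε G).comp (σ G) = RingHom.id _ := RingHom.ext (ε_σ G)
  rw [e, Polynomial.eval₂_id] at h2
  exact h2

theorem coeff_charpoly_mem_invariants {n : ℕ} (D : DualBasis (σ G) n) (a : Γ(G.U, ⊤)) (k : ℕ) :
    (D.mat (τ G a)).charpoly.coeff k ∈ G.invariants := by
  rw [mem_invariants_iff]
  have := congrArg (fun p => p.coeff k) (charpoly_map_σ_eq_map_τ G D a)
  simpa only [Polynomial.coeff_map] using this

/-- every function on `U` is a root of a monic polynomial with invariant coefficients. -/
theorem exists_monic_invariant {n : ℕ} (D : DualBasis (σ G) n) (a : Γ(G.U, ⊤)) :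
    ∃ q : Polynomial G.invariants, q.Monic ∧
      q.map G.invariants.subtype = (D.mat (τ G a)).charpoly := by
  have hl : (D.mat (τ G a)).charpoly ∈ Polynomial.lifts G.invariants.subtype := by
    rw [Polynomial.lifts_iff_coeff_lifts]
    intro k
    exact ⟨⟨_, coeff_charpoly_mem_invariants G D a k⟩, rfl⟩
  rcases subsingleton_or_nontrivial Γ(G.U, ⊤) with hs | hn
  · exact ⟨1, Polynomial.monic_one, Subsingleton.elim _ _⟩
  · obtain ⟨q, hq, -, hm⟩ := Polynomial.lifts_and_degree_eq_and_monic hl
      (Matrix.charpoly_monic _)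
    exact ⟨q, hm, hq⟩

theorem isIntegral_invariants [IsFinite G.s] [Flat G.s] [LocallyOfFinitePresentation G.s] :
    Algebra.IsIntegral G.invariants Γ(G.U, ⊤) := by
  obtain ⟨n, ⟨D⟩⟩ := exists_dualBasis_σ G
  refine ⟨fun a => ?_⟩
  obtain ⟨q, hm, hq⟩ := exists_monic_invariant G D a
  refine ⟨q, hm, ?_⟩
  have : Polynomial.eval₂ (algebraMap G.invariants Γ(G.U, ⊤)) a q =
      (q.map G.invariants.subtype).eval a := by
    rw [Polynomial.eval_map]
    rfl
  rw [this, hq]
  exact eval_charpoly_eq_zero G D a

end Groth.Agent.H40.FG
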