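import Mathlib.FieldTheory.IsAlgClosed.Basic
import Mathlib.RingTheory.Ideal.GoingUp
import Mathlib.RingTheory.IntegralClosure.IsIntegralClosure.Basic

/-!
# Extending a homomorphism to an algebraically closed field along an injective integral map
-/

set_option autoImplicit false
universe u

namespace Groth.Agent.H40.FG

theorem exists_extension_of_isIntegral {C A : Type u} [CommRing C] [CommRing A] [Algebra C A]
    [Algebra.IsIntegral C A] (hinj : Function.Injective (algebraMap C A)) {k : Type u} [Field k]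
    [IsAlgClosed k] (μ : C →+* k) : ∃ φ : A →+* k, φ.comp (algebraMap C A) = μ := by
  have : (RingHom.ker μ).IsPrime := RingHom.ker_isPrime μ
  obtain ⟨Q, -, hQ, hQc⟩ := Ideal.exists_ideal_over_prime_of_isIntegral (RingHom.ker μ)
    (⊥ : Ideal A) (by
      rw [Ideal.comap_bot_of_injective _ hinj]
      exact bot_le)
  let μ' : C ⧸ Q.comap (algebraMap C A) →+* k := Ideal.Quotient.lift _ μ (fun c hc => by
    rw [hQc] at hc
    exact hc)
  have hμ' : Function.Injective μ' := by
    rw [injective_iff_map_eq_zero]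
    intro x
    obtain ⟨c, rfl⟩ := Ideal.Quotient.mk_surjective x
    intro h
    rw [Ideal.Quotient.eq_zero_iff_mem, hQc]
    exact h
  letI : Algebra (C ⧸ Q.comap (algebraMap C A)) k := μ'.toAlgebra
  have : IsDomain (A ⧸ Q) := Ideal.Quotient.isDomain Q
  have : (Q.comap (algebraMap C A)).IsPrime := Ideal.comap_isPrime _ _
  have : IsDomain (C ⧸ Q.comap (algebraMap C A)) := Ideal.Quotient.isDomain _
  have : Module.IsTorsionFree (C ⧸ Q.comap (algebraMap C A)) k :=
    Module.isTorsionFree_iff_algebraMap_injective.mpr hμ'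
  have : Module.IsTorsionFree (C ⧸ Q.comap (algebraMap C A)) (A ⧸ Q) :=
    Module.isTorsionFree_iff_algebraMap_injective.mpr Ideal.algebraMap_quotient_injective
  have : Algebra.IsAlgebraic (C ⧸ Q.comap (algebraMap C A)) (A ⧸ Q) :=
    Algebra.IsIntegral.isAlgebraic
  let ψ : (A ⧸ Q) →ₐ[C ⧸ Q.comap (algebraMap C A)] k := IsAlgClosed.lift
  refine ⟨ψ.toRingHom.comp (Ideal.Quotient.mk Q), ?_⟩
  ext c
  change ψ (Ideal.Quotient.mk Q (algebraMap C A c)) = μ c
  have : Ideal.Quotient.mk Q (algebraMap C A c) =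
      algebraMap (C ⧸ Q.comap (algebraMap C A)) (A ⧸ Q) (Ideal.Quotient.mk _ c) := rfl
  rw [this, ψ.commutes]
  rfl

end Groth.Agent.H40.FG
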