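import Groth.Agent.H40.FG.AGrpdBC
import Groth.Agent.H40.FG.Roots
import Mathlib.Algebra.Module.Submodule.Union
import Mathlib.RingTheory.MvPolynomial.Basic

/-!
# Points of a finite locally free affine groupoid with values in an algebraically closed field

Two `k`-points of `A` which agree on the invariants are the target and source of a `k`-point of `B`.
-/

set_option autoImplicit false
set_option backward.isDefEq.respectTransparency.types false
universe u

open CategoryTheory CategoryTheory.Limits Matrix Polynomial TensorProduct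

namespace Groth.Agent.H40.FG

namespace AGrpd

variable {K A B E : Type u} [CommRing K] [CommRing A] [CommRing B] [CommRing E]
    [Algebra K A] [Algebra K B] [Algebra K E] (H : AGrpd K A B E)

/-- the value of `F` at a point `x₀` is `0` or the value of `τ F` at a rational point of the fibre
of `σ` over a point `x₁` which agrees with `x₀` on invariants. -/
theorem root_spec {n : ℕ} (D : DualBasis H.σ.toRingHom n) {k : Type u} [Field k] [IsAlgClosed k]
    (x₀ x₁ : A →+* k) (hx : ∀ a, H.σ a = H.τ a → x₀ a = x₁ a)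
    {B₁ : Type u} [CommRing B₁] (hl : B →+* B₁) (ι : k →+* B₁)
    (hsq : IsPushout (CommRingCat.ofHom x₁) (CommRingCat.ofHom H.σ.toRingHom)
      (CommRingCat.ofHom ι) (CommRingCat.ofHom hl)) (F : A) :
    x₀ F = 0 ∨ ∃ ρ : B₁ →+* k, ρ.comp ι = RingHom.id k ∧ ρ (hl (H.τ F)) = x₀ F := by
  obtain ⟨Dl, hg, hc⟩ := DualBasis.exists_baseChange H.σ.toRingHom x₁ hl ι hsq D
  have hmat := DualBasis.mat_baseChange x₁ hl D Dl hg hc (H.τ F)
  have hcp : (Dl.mat (hl (H.τ F))).charpoly = (D.mat (H.τ F)).charpoly.map x₀ := by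
    rw [hmat, Matrix.charpoly_map]
    ext i
    simp only [Polynomial.coeff_map]
    exact (hx _ (H.coeff_charpoly_invariant D F i)).symm
  have hroot : (Dl.mat (hl (H.τ F))).charpoly.eval (x₀ F) = 0 := by
    rw [hcp, Polynomial.eval_map]
    have h := Polynomial.hom_eval₂ (D.mat (H.τ F)).charpoly (RingHom.id A) x₀ F
    rw [RingHom.comp_id, Polynomial.eval₂_id, H.eval_charpoly_eq_zero D F, map_zero] at h
    exact h.symm
  exact Dl.exists_section_of_isRoot _ _ hroot

/-- the generic-element argument: for every finite family `a j` of elements of `A` and every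
specialization `l j ∈ k`, the value `∑ ξ₀ (a j) l j` is `0` or is taken by `∑ τ (a j) l j` at a
rational point of the fibre `B₁` of `σ` over `ξ₁`. -/
theorem key_aux (hex : ∀ a, H.σ a = H.τ a → a ∈ Set.range (algebraMap K A))
    {n : ℕ} (D : DualBasis H.σ.toRingHom n) {k : Type u} [Field k] [IsAlgClosed k]
    (ξ₀ ξ₁ : A →+* k) (hξ : ∀ c : K, ξ₀ (algebraMap K A c) = ξ₁ (algebraMap K A c))
    {B₁ : Type u} [CommRing B₁] (h₁ : B →+* B₁) (ι : k →+* B₁)
    (hpo : IsPushout (CommRingCat.ofHom H.σ.toRingHom) (CommRingCat.ofHom ξ₁)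
      (CommRingCat.ofHom h₁) (CommRingCat.ofHom ι))
    (J : Type u) [Fintype J] (a : J → A) (l : J → k) :
    (∑ j, ξ₀ (a j) * l j = 0) ∨ ∃ ρ : B₁ →+* k, ρ.comp ι = RingHom.id k ∧
        ∑ j, ρ (h₁ (H.τ (a j))) * l j = ∑ j, ξ₀ (a j) * l j := by
  have hw : ∀ a, h₁ (H.σ a) = ι (ξ₁ a) := fun a => by
    have := congrArg (fun φ => φ.hom a) hpo.w
    simpa using this
  obtain ⟨D', -, -⟩ := H.exists_dualBasis_baseChange (MvPolynomial J K) D
  let F : A ⊗[K] (MvPolynomial J K) := ∑ j, a j ⊗ₜ[K] (MvPolynomial.X j : MvPolynomial J K)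
  -- `k` and `B₁` as `K`-algebras
  letI : Algebra K k := (ξ₁.comp (algebraMap K A)).toAlgebra
  let ξ₁a : A →ₐ[K] k := { toRingHom := ξ₁, commutes' := fun c => rfl }
  let ξ₀a : A →ₐ[K] k := { toRingHom := ξ₀, commutes' := fun c => hξ c }
  letI : Algebra K B₁ := (ι.comp (algebraMap K k)).toAlgebra
  let ιa : k →ₐ[K] B₁ := { toRingHom := ι, commutes' := fun c => rfl }
  let h₁a : B →ₐ[K] B₁ :=
    { toRingHom := h₁
      commutes' := fun c => by
        change h₁ (algebraMap K B c) = ι (ξ₁ (algebraMap K A c))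
        rw [← hw, AlgHom.commutes] }
  have hξ₀a : ∀ x, ξ₀a x = ξ₀ x := fun _ => rfl
  have hξ₁a : ∀ x, ξ₁a x = ξ₁ x := fun _ => rfl
  have hιa : ∀ x, ιa x = ι x := fun _ => rfl
  have hh₁a : ∀ x, h₁a x = h₁ x := fun _ => rfl
  let x₀ : A ⊗[K] (MvPolynomial J K) →ₐ[K] k :=
    Algebra.TensorProduct.productMap ξ₀a (MvPolynomial.aeval l)
  let x₁ : A ⊗[K] (MvPolynomial J K) →ₐ[K] k :=
    Algebra.TensorProduct.productMap ξ₁a (MvPolynomial.aeval l)
  let hl : B ⊗[K] (MvPolynomial J K) →ₐ[K] B₁ :=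
    Algebra.TensorProduct.productMap h₁a (ιa.comp (MvPolynomial.aeval l))
  have hsq : IsPushout (CommRingCat.ofHom x₁.toRingHom)
      (CommRingCat.ofHom (H.baseChange (MvPolynomial J K)).σ.toRingHom)
      (CommRingCat.ofHom ι) (CommRingCat.ofHom hl.toRingHom) := by
    have P1 := isPushout_bcMap (MvPolynomial J K) H.σ
    have e1 : CommRingCat.ofHom ξ₁ =
        CommRingCat.ofHom
          (Algebra.TensorProduct.includeLeftRingHom : A →+* A ⊗[K] (MvPolynomial J K)) ≫
          CommRingCat.ofHom x₁.toRingHom := by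
      ext a
      simp [x₁, hξ₁a]
    have e2 : CommRingCat.ofHom h₁ =
        CommRingCat.ofHom
          (Algebra.TensorProduct.includeLeftRingHom : B →+* B ⊗[K] (MvPolynomial J K)) ≫
          CommRingCat.ofHom hl.toRingHom := by
      ext b
      simp [hl, hh₁a]
    have hpo' := hpo
    rw [e1, e2] at hpo'
    refine (IsPushout.of_top hpo' ?_ P1).flip
    ext x
    · simp [x₁, hl, hξ₁a, hh₁a, hw]
    · simp [x₁, hl]
      rfl
    · simp [x₁, hl, hιa]
  have hx : ∀ f, (H.baseChange (MvPolynomial J K)).σ f = (H.baseChange (MvPolynomial J K)).τ f →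
      x₀ f = x₁ f := by
    intro f hf
    obtain ⟨r, rfl⟩ := H.baseChange_invariant_mem_range (MvPolynomial J K) hex f hf
    simp [x₀, x₁]
  have e1 : x₀ F = ∑ j, ξ₀ (a j) * l j := by
    simp only [x₀, F, map_sum, Algebra.TensorProduct.productMap_apply_tmul,
      MvPolynomial.aeval_X, hξ₀a]
  have e2 : ∀ ρ : B₁ →+* k, ρ.comp ι = RingHom.id k →
      ρ (hl ((H.baseChange (MvPolynomial J K)).τ F)) = ∑ j, ρ (h₁ (H.τ (a j))) * l j := by
    intro ρ hρ
    have hρι : ∀ c, ρ (ι c) = c := fun c => RingHom.congr_fun hρ c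
    simp only [F, hl, map_sum, baseChange_τ_tmul,
      Algebra.TensorProduct.productMap_apply_tmul, AlgHom.comp_apply,
      MvPolynomial.aeval_X, map_mul, hιa, hh₁a, hρι]
  rcases (H.baseChange (MvPolynomial J K)).root_spec D' x₀.toRingHom x₁.toRingHom hx
    hl.toRingHom ι hsq F with h0 | ⟨ρ, hρ, hv⟩
  · left
    rw [← e1]
    exact h0
  · right
    refine ⟨ρ, hρ, ?_⟩
    rw [← e1, ← e2 ρ hρ]
    exact hv

/-- two `k`-points of `A` agreeing on `K` (which maps onto the invariants) are the target and source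
of a `k`-point of `B`; version with an abstract fibre `B₁ = B ⊗_{σ, A, ξ₁} k`. -/
theorem exists_hom_of_agree_aux (hex : ∀ a, H.σ a = H.τ a → a ∈ Set.range (algebraMap K A))
    {n : ℕ} (D : DualBasis H.σ.toRingHom n) {k : Type u} [Field k] [IsAlgClosed k]
    (ξ₀ ξ₁ : A →+* k) (hξ : ∀ c : K, ξ₀ (algebraMap K A c) = ξ₁ (algebraMap K A c))
    {B₁ : Type u} [CommRing B₁] (h₁ : B →+* B₁) (ι : k →+* B₁)
    (hpo : IsPushout (CommRingCat.ofHom H.σ.toRingHom) (CommRingCat.ofHom ξ₁)
      (CommRingCat.ofHom h₁) (CommRingCat.ofHom ι)) :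
    ∃ ρ : B →+* k, ρ.comp H.τ.toRingHom = ξ₀ ∧ ρ.comp H.σ.toRingHom = ξ₁ := by
  have hw : ∀ a, h₁ (H.σ a) = ι (ξ₁ a) := fun a => by
    have := congrArg (fun φ => φ.hom a) hpo.w
    simpa using this
  obtain ⟨D₁, -, -⟩ := DualBasis.exists_baseChange H.σ.toRingHom ξ₁ h₁ ι hpo.flip D
  haveI : Finite {ρ : B₁ →+* k // ρ.comp ι = RingHom.id k} := D₁.finite_sections
  by_contra hcon
  push_neg at hcon
  have hne : ∀ ρ : {ρ : B₁ →+* k // ρ.comp ι = RingHom.id k},
      ∃ a, ρ.1 (h₁ (H.τ a)) ≠ ξ₀ a := by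
    intro ρ
    by_contra hall
    push_neg at hall
    refine hcon (ρ.1.comp h₁) (RingHom.ext hall) ?_
    ext a
    change ρ.1 (h₁ (H.σ a)) = ξ₁ a
    rw [hw]
    exact RingHom.congr_fun ρ.2 (ξ₁ a)
  choose a₀ ha₀ using hne
  letI : Fintype (Option {ρ : B₁ →+* k // ρ.comp ι = RingHom.id k}) := Fintype.ofFinite _
  letI : DecidableEq (Option {ρ : B₁ →+* k // ρ.comp ι = RingHom.id k}) := Classical.decEq _
  let a : Option {ρ : B₁ →+* k // ρ.comp ι = RingHom.id k} → A := fun j => j.elim 1 a₀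
  have key := H.key_aux hex D ξ₀ ξ₁ hξ h₁ ι hpo _ a
  -- finitely many nonzero linear forms on `J → k` have a common non-zero
  let ℓ : Option {ρ : B₁ →+* k // ρ.comp ι = RingHom.id k} →
      Module.Dual k (Option {ρ : B₁ →+* k // ρ.comp ι = RingHom.id k} → k) := fun j =>
    j.elim (∑ j', ξ₀ (a j') • LinearMap.proj j')
      (fun ρ => ∑ j', (ρ.1 (h₁ (H.τ (a j'))) - ξ₀ (a j')) • LinearMap.proj j')
  have hℓ : ∀ j, ∃ x, ℓ j x ≠ 0 := by
    intro j
    refine ⟨Pi.single j 1, ?_⟩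
    cases j with
    | none =>
      simp only [ℓ, Option.elim, LinearMap.sum_apply, LinearMap.smul_apply, LinearMap.proj_apply,
        Pi.single_apply, smul_eq_mul, mul_ite, mul_one, mul_zero, Finset.sum_ite_eq',
        Finset.mem_univ, if_true]
      simp [a]
    | some ρ =>
      simp only [ℓ, Option.elim, LinearMap.sum_apply, LinearMap.smul_apply, LinearMap.proj_apply,
        Pi.single_apply, smul_eq_mul, mul_ite, mul_one, mul_zero, Finset.sum_ite_eq',
        Finset.mem_univ, if_true]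
      exact sub_ne_zero.mpr (ha₀ ρ)
  obtain ⟨l, hl⟩ := Module.Dual.exists_forall_ne_zero_of_forall_exists ℓ hℓ
  rcases key l with h | ⟨ρ, hρ, h⟩
  · refine hl none ?_
    simpa [ℓ] using h
  · refine hl (some ⟨ρ, hρ⟩) ?_
    simp only [ℓ, Option.elim, LinearMap.sum_apply, LinearMap.smul_apply, LinearMap.proj_apply,
      smul_eq_mul, sub_mul, Finset.sum_sub_distrib]
    rw [h, sub_self]

/-- two `k`-points of `A` agreeing on `K` (which maps onto the invariants) are the target and source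
of a `k`-point of `B`. -/
theorem exists_hom_of_agree (hex : ∀ a, H.σ a = H.τ a → a ∈ Set.range (algebraMap K A))
    {n : ℕ} (D : DualBasis H.σ.toRingHom n) {k : Type u} [Field k] [IsAlgClosed k]
    (ξ₀ ξ₁ : A →+* k) (hξ : ∀ c : K, ξ₀ (algebraMap K A c) = ξ₁ (algebraMap K A c)) :
    ∃ ρ : B →+* k, ρ.comp H.τ.toRingHom = ξ₀ ∧ ρ.comp H.σ.toRingHom = ξ₁ := by
  letI := H.σ.toRingHom.toAlgebra
  letI := ξ₁.toAlgebra
  exact H.exists_hom_of_agree_aux hex D ξ₀ ξ₁ hξ
    (Algebra.TensorProduct.includeLeftRingHom : B →+* B ⊗[A] k)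
    (Algebra.TensorProduct.includeRight : k →ₐ[A] B ⊗[A] k).toRingHom
    (CommRingCat.isPushout_tensorProduct A B k)

end AGrpd

end Groth.Agent.H40.FG
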