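import Mathlib.RingTheory.LocalRing.Module

/-!
# A family reducing to a basis modulo every maximal ideal is a basis (finite flat modules)

Extracted from the proof of `Module.nonempty_basis_of_flat_of_finrank_eq`.
-/

set_option autoImplicit false
universe u v

open Module Ideal TensorProduct Submodule Finsupp

namespace Groth.Agent.H40.FG

variable (R : Type u) (M : Type v) [CommRing R] [AddCommGroup M] [Module R M]

theorem bijective_linearCombination_of_forall_maximal [Module.Finite R M] [Flat R M] {I : Type u}
    (b : I → M)
    (b' : ∀ P : MaximalSpectrum R, Basis I (R ⧸ P.1) ((R ⧸ P.1) ⊗[R] M))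
    (hb : ∀ P i, b' P i = (1 : R ⧸ P.1) ⊗ₜ[R] b i) :
    Function.Bijective (Finsupp.linearCombination R b) := by
  classical
  let := @Quotient.field.{u}
  refine bijective_of_isLocalized_maximal
    _ (fun P _ ↦ Finsupp.mapRange.linearMap (Algebra.linearMap R (Localization P.primeCompl)))
    _ (fun P _ ↦ TensorProduct.mk R (Localization P.primeCompl) M 1) _ fun P _ ↦ ?_
  rw [IsLocalizedModule.map_linearCombination, LinearMap.coe_restrictScalars]
  apply IsLocalRing.linearCombination_bijective_of_flat
  rw [← (AlgebraTensorModule.cancelBaseChange _ _ P.ResidueField ..).comp_bijective,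
    ← (AlgebraTensorModule.cancelBaseChange R (R ⧸ P) P.ResidueField ..).symm.comp_bijective]
  convert! ((b' ⟨P, ‹_›⟩).repr.lTensor _ ≪≫ₗ finsuppScalarRight _ _ P.ResidueField _).symm.bijective
  refine funext fun r ↦ Finsupp.induction_linear r (by simp) (by simp +contextual) fun _ _ ↦ ?_
  simp [smul_tmul', hb]

end Groth.Agent.H40.FG
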