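import Groth.Agent.H40.FG.Fibre
import Groth.Agent.H40.FG.KPoint
import Groth.Agent.H40.FG.IntegralLift
import Groth.Agent.H40.FG.ABasis
import Groth.Agent.H40.FG.ConclDescent
import Groth.Agent.H40.FG.SemiLocalBasis
import Groth.Agent.H40.FG.InvBC
import Mathlib.FieldTheory.IsAlgClosed.AlgebraicClosure

/-!
# The quotient of a finite locally free affine groupoid: the local case

If the ring of invariants `K` is local, a basis of `B` over `A` can be chosen among the `τ x`.
-/

set_option autoImplicit false
set_option backward.isDefEq.respectTransparency.types false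
universe u

open CategoryTheory CategoryTheory.Limits Matrix Polynomial TensorProduct

namespace Groth.Agent.H40.FG

/-- a hom from the quotient by a prime to an algebraically closed field, prescribed on `C`. -/
theorem exists_hom_quotient_of_isIntegral {C A : Type u} [CommRing C] [CommRing A] [Algebra C A]
    [Algebra.IsIntegral C A] (Q : Ideal A) [Q.IsPrime] {k : Type u} [Field k] [IsAlgClosed k]
    (μ : C →+* k) (hQc : Q.comap (algebraMap C A) = RingHom.ker μ) :
    ∃ φ : A ⧸ Q →+* k, ∀ c, φ (Ideal.Quotient.mk Q (algebraMap C A c)) = μ c := by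
  let μ' : C ⧸ Q.comap (algebraMap C A) →+* k := Ideal.Quotient.lift _ μ (fun c hc => by
    rw [hQc] at hc
    exact hc)
  have hμ' : Function.Injective μ' := by
    rw [injective_iff_map_eq_zero]
    intro x
    obtain ⟨c, rfl⟩ := Ideal.Quotient.mk_surjective x
    intro h
    rw [Ideal.Quotient.eq_zero_iff_mem, hQc]
    exact h
  letI : Algebra (C ⧸ Q.comap (algebraMap C A)) k := μ'.toAlgebra
  have : IsDomain (A ⧸ Q) := Ideal.Quotient.isDomain Q
  have : (Q.comap (algebraMap C A)).IsPrime := Ideal.comap_isPrime _ _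
  have : IsDomain (C ⧸ Q.comap (algebraMap C A)) := Ideal.Quotient.isDomain _
  have : Module.IsTorsionFree (C ⧸ Q.comap (algebraMap C A)) k :=
    Module.isTorsionFree_iff_algebraMap_injective.mpr hμ'
  have : Module.IsTorsionFree (C ⧸ Q.comap (algebraMap C A)) (A ⧸ Q) :=
    Module.isTorsionFree_iff_algebraMap_injective.mpr Ideal.algebraMap_quotient_injective
  have : Algebra.IsAlgebraic (C ⧸ Q.comap (algebraMap C A)) (A ⧸ Q) :=
    Algebra.IsIntegral.isAlgebraic
  let ψ : (A ⧸ Q) →ₐ[C ⧸ Q.comap (algebraMap C A)] k := IsAlgClosed.lift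
  refine ⟨ψ.toRingHom, fun c => ?_⟩
  change ψ (Ideal.Quotient.mk Q (algebraMap C A c)) = μ c
  have : Ideal.Quotient.mk Q (algebraMap C A c) =
      algebraMap (C ⧸ Q.comap (algebraMap C A)) (A ⧸ Q) (Ideal.Quotient.mk _ c) := rfl
  rw [this, ψ.commutes]
  rfl

namespace DualBasis

variable {A B : Type u} [CommRing A] [CommRing B] [Algebra A B] {n : ℕ}
  (D : DualBasis (algebraMap A B) n)

include D in
theorem module_finite : Module.Finite A B := by
  refine Module.Finite.of_surjective (Fintype.linearCombination A D.g) (fun b => ?_)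
  refine ⟨fun j => D.c j b, ?_⟩
  rw [Fintype.linearCombination_apply]
  conv_rhs => rw [← D.sum_eq b]
  refine Finset.sum_congr rfl fun j _ => ?_
  rw [Algebra.smul_def]

include D in
theorem module_projective : Module.Projective A B := by
  let i : B →ₗ[A] (Fin n → A) :=
    { toFun := fun b k => D.c k b
      map_add' := fun b b' => funext fun k => D.c_add k b b'
      map_smul' := fun a b => funext fun k => by
        rw [Algebra.smul_def, D.c_smul]
        rfl }
  refine Module.Projective.of_split i (Fintype.linearCombination A D.g) ?_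
  ext b
  simp only [LinearMap.comp_apply, LinearMap.id_apply]
  rw [Fintype.linearCombination_apply]
  conv_rhs => rw [← D.sum_eq b]
  refine Finset.sum_congr rfl fun j _ => ?_
  rw [Algebra.smul_def]
  rfl

/-- the fibre `F ⊗[A] B` with its base-changed dual basis. -/
theorem exists_fibre (F : Type u) [CommRing F] [Algebra A F] :
    ∃ D' : DualBasis (algebraMap F (F ⊗[A] B)) n,
      (∀ k b, D'.c k ((Algebra.TensorProduct.includeRight : B →ₐ[A] F ⊗[A] B).toRingHom b) =
        algebraMap A F (D.c k b)) ∧
      (∀ k, D'.g k = (Algebra.TensorProduct.includeRight : B →ₐ[A] F ⊗[A] B).toRingHom (D.g k)) := by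
  have hpo := CommRingCat.isPushout_tensorProduct A F B
  obtain ⟨D', hg, hc⟩ := DualBasis.exists_baseChange (algebraMap A B) (algebraMap A F)
    (Algebra.TensorProduct.includeRight : B →ₐ[A] F ⊗[A] B).toRingHom
    (algebraMap F (F ⊗[A] B)) hpo D
  exact ⟨D', hc, hg⟩

end DualBasis

namespace AGrpd

variable {K A B E : Type u} [CommRing K] [CommRing A] [CommRing B] [CommRing E]
    [Algebra K A] [Algebra K B] [Algebra K E] {H : AGrpd K A B E}

theorem Hyp.isIntegral (h : H.Hyp) : Algebra.IsIntegral K A := by
  obtain ⟨n, ⟨D⟩⟩ := h.dual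
  refine ⟨fun a => ?_⟩
  have hl : (D.mat (H.τ a)).charpoly ∈ Polynomial.lifts (algebraMap K A) := by
    rw [Polynomial.lifts_iff_coeff_lifts]
    intro k
    exact h.ex _ (H.coeff_charpoly_invariant D a k)
  rcases subsingleton_or_nontrivial A with hs | hn
  · exact ⟨1, Polynomial.monic_one, Subsingleton.elim _ _⟩
  · obtain ⟨q, hq, -, hm⟩ := Polynomial.lifts_and_degree_eq_and_monic hl
      (Matrix.charpoly_monic _)
    refine ⟨q, hm, ?_⟩
    rw [← Polynomial.eval_map, hq]
    exact H.eval_charpoly_eq_zero D a

end AGrpd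

end Groth.Agent.H40.FG
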