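import Groth.Agent.H40.FG.LocalCore

/-!
# The local case: `K` local ⇒ `A` is free over `K` and `A ⊗[K] A ≃ B`
-/

set_option autoImplicit false
set_option backward.isDefEq.respectTransparency.types false
universe u

open CategoryTheory CategoryTheory.Limits Matrix Polynomial TensorProduct

namespace Groth.Agent.H40.FG

namespace AGrpd

variable {K A B E : Type u} [CommRing K] [CommRing A] [CommRing B] [CommRing E]
    [Algebra K A] [Algebra K B] [Algebra K E] {H : AGrpd K A B E}

theorem Hyp.comap_eq_maximalIdeal [IsLocalRing K] (h : H.Hyp) (P : Ideal A) [P.IsMaximal] :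
    P.comap (algebraMap K A) = IsLocalRing.maximalIdeal K := by
  haveI := h.isIntegral
  exact IsLocalRing.eq_maximalIdeal (Ideal.isMaximal_comap_of_isIntegral_of_isMaximal P)

theorem Hyp.concl_of_isLocalRing [IsLocalRing K] (h : H.Hyp) : H.Concl := by
  obtain ⟨n, ⟨D⟩⟩ := h.dual
  haveI := h.isIntegral
  haveI : Nontrivial A := h.inj.nontrivial
  obtain ⟨P₀, hP₀⟩ := Ideal.exists_maximal A
  letI := Ideal.Quotient.field P₀
  let k := AlgebraicClosure (A ⧸ P₀)
  let ξ₁ : A →+* k := (algebraMap (A ⧸ P₀) k).comp (Ideal.Quotient.mk P₀)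
  have hker₁ : ∀ a, ξ₁ a = 0 ↔ a ∈ P₀ := by
    intro a
    change algebraMap (A ⧸ P₀) k (Ideal.Quotient.mk P₀ a) = 0 ↔ _
    rw [map_eq_zero_iff _ (algebraMap (A ⧸ P₀) k).injective, Ideal.Quotient.eq_zero_iff_mem]
  letI := H.σ.toRingHom.toAlgebra
  have hfin : Module.Finite A B := DualBasis.module_finite D
  have hproj : Module.Projective A B := DualBasis.module_projective D
  -- the geometric fibre over `P₀`
  letI algk : Algebra A k := ξ₁.toAlgebra
  obtain ⟨D₁, hc₁, hg₁⟩ := DualBasis.exists_fibre D k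
  have hw₁ : ∀ a, (Algebra.TensorProduct.includeRight : B →ₐ[A] k ⊗[A] B).toRingHom (H.σ a) =
      algebraMap k (k ⊗[A] B) (ξ₁ a) := by
    intro a
    have := (Algebra.TensorProduct.includeRight : B →ₐ[A] k ⊗[A] B).commutes a
    rw [IsScalarTower.algebraMap_apply A k (k ⊗[A] B)] at this
    exact this
  obtain ⟨I, _, x, hI, hcard⟩ := H.exists_indepAt D D₁ ξ₁
    (Algebra.TensorProduct.includeRight : B →ₐ[A] k ⊗[A] B).toRingHom hc₁ hg₁ hw₁ h.gen
  have e1 := DualBasis.map_rankPoly_eq_X_pow D D₁ ξ₁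
    (Algebra.TensorProduct.includeRight : B →ₐ[A] k ⊗[A] B).toRingHom hc₁ hg₁
  -- every maximal ideal
  have hP : ∀ P : MaximalSpectrum A, ∃ b' : Module.Basis I (A ⧸ P.1) ((A ⧸ P.1) ⊗[A] B),
      ∀ j, b' j = (1 : A ⧸ P.1) ⊗ₜ[A] H.τ (x j) := by
    rintro ⟨P, hPmax⟩
    letI := Ideal.Quotient.field P
    have hcomap : P.comap (algebraMap K A) = RingHom.ker (ξ₁.comp (algebraMap K A)) := by
      rw [h.comap_eq_maximalIdeal P, ← h.comap_eq_maximalIdeal P₀]
      ext c
      rw [RingHom.mem_ker, Ideal.mem_comap, RingHom.comp_apply, hker₁]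
    obtain ⟨ιP, hιP⟩ := exists_hom_quotient_of_isIntegral P (ξ₁.comp (algebraMap K A)) hcomap
    let ξ₀ : A →+* k := ιP.comp (Ideal.Quotient.mk P)
    obtain ⟨ρ, hρτ, hρσ⟩ := H.exists_hom_of_agree h.ex D ξ₀ ξ₁ (fun c => hιP c)
    have h0 : D.IndepAt ξ₀ (fun j => H.τ (x j)) := by
      rw [← hρτ]
      apply H.indepAt_τ_of_σ
      rw [hρσ]
      exact hI
    have hP' : D.IndepAt (Ideal.Quotient.mk P) (fun j => H.τ (x j)) :=
      DualBasis.IndepAt.of_comp D ιP ιP.injective h0
    obtain ⟨DP, hcP, hgP⟩ := DualBasis.exists_fibre D (A ⧸ P)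
    have hli : LinearIndependent (A ⧸ P) (fun j => (1 : A ⧸ P) ⊗ₜ[A] H.τ (x j)) :=
      (DualBasis.indepAt_iff_linearIndependent D DP (Ideal.Quotient.mk P)
        (Algebra.TensorProduct.includeRight : B →ₐ[A] (A ⧸ P) ⊗[A] B).toRingHom hcP _).mp hP'
    have e2 := DualBasis.map_rankPoly_eq_X_pow D DP (Ideal.Quotient.mk P)
      (Algebra.TensorProduct.includeRight : B →ₐ[A] (A ⧸ P) ⊗[A] B).toRingHom hcP hgP
    have e3 : (rankPoly (D.mat 1)).map ξ₀ = (rankPoly (D.mat 1)).map ξ₁ := by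
      ext i
      rw [Polynomial.coeff_map, Polynomial.coeff_map]
      obtain ⟨c, hc⟩ := H.coeff_rankPoly_mem_range h.ex D i
      rw [← hc]
      exact hιP c
    have e4 : (rankPoly (D.mat 1)).map ξ₀ =
        ((rankPoly (D.mat 1)).map (Ideal.Quotient.mk P)).map ιP := (Polynomial.map_map _ _ _).symm
    have hrank : Fintype.card I = Module.finrank (A ⧸ P) ((A ⧸ P) ⊗[A] B) := by
      rw [e2, e3, e1, Polynomial.map_pow, Polynomial.map_X] at e4
      have := congrArg Polynomial.natDegree e4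
      rw [Polynomial.natDegree_X_pow, Polynomial.natDegree_X_pow] at this
      rw [hcard, this]
    exact ⟨basisOfLinearIndependentOfCardEqFinrank' _ hli hrank, fun j => by simp⟩
  choose b' hb' using hP
  have hbij := bijective_linearCombination_of_forall_maximal A B (fun j => H.τ (x j)) b' hb'
  let bB : Module.Basis I A B :=
    Module.Basis.ofRepr (LinearEquiv.ofBijective _ hbij).symm
  have hbB : ∀ j, bB j = H.τ (x j) := by
    intro j
    simp [bB]
  refine ⟨?_, H.productMap_bijective x bB hbB h.ex h.inj⟩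
  haveI := Module.Free.of_basis (H.basisK x bB hbB h.ex h.inj)
  exact inferInstance

end AGrpd

end Groth.Agent.H40.FG
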