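import Groth.Agent.H40.FG.Groupoid
import Mathlib.RingTheory.Norm.Defs

/-!
# The norm of a free ring map through a dual basis; invariance of `normST`
-/

set_option autoImplicit false
set_option backward.isDefEq.respectTransparency.types false
universe u

open CategoryTheory CategoryTheory.Limits AlgebraicGeometry Grpd Matrix Polynomial

namespace Groth.Agent.H40.FG

/-- the dual basis of a basis. -/
noncomputable def dualBasisOfBasis {A B : Type u} [CommRing A] [CommRing B] (f : A →+* B) {n : ℕ}
    (b : letI := f.toAlgebra; Module.Basis (Fin n) A B) : DualBasis f n :=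
  letI := f.toAlgebra
  { g := fun k => b k
    c := fun k x => b.repr x k
    c_add := fun k x y => by rw [map_add, Finsupp.add_apply]
    c_smul := fun k a x => by
      have : f a * x = a • x := (Algebra.smul_def a x).symm
      rw [this, map_smul, Finsupp.smul_apply, smul_eq_mul]
    sum_eq := fun x => by
      have h1 : ∀ k, f (b.repr x k) * b k = (b.repr x k) • b k :=
        fun k => (Algebra.smul_def _ _).symm
      simp only [h1]
      exact b.sum_repr x }

theorem det_mat_dualBasisOfBasis {A B : Type u} [CommRing A] [CommRing B] (f : A →+* B) {n : ℕ}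
    (b : letI := f.toAlgebra; Module.Basis (Fin n) A B) (x : B) :
    ((dualBasisOfBasis f b).mat x).det = (letI := f.toAlgebra; Algebra.norm A x) := by
  letI := f.toAlgebra
  rw [Algebra.norm_eq_matrix_det b]
  congr 1
  ext j k
  rw [DualBasis.mat_apply, Algebra.leftMulMatrix_eq_repr_mul]
  rfl

variable {S : Scheme.{u}} (G : GroupoidScheme S) [IsAffine G.U] [IsAffine G.R]

/-- the norm along `s♯` of `t♯ f` is an invariant function. -/
theorem normST_mem_invariants (f : Γ(G.U, ⊤)) : G.normST f ∈ G.invariants := by
  letI := G.s.appTop.hom.toAlgebra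
  by_cases h : ∃ s : Finset Γ(G.R, ⊤), Nonempty (Module.Basis s Γ(G.U, ⊤) Γ(G.R, ⊤))
  · obtain ⟨s, ⟨b⟩⟩ := h
    let bb : Module.Basis (Fin (Fintype.card s)) Γ(G.U, ⊤) Γ(G.R, ⊤) :=
      b.reindex (Fintype.equivFin s)
    have hn : G.normST f = ((dualBasisOfBasis (σ G) bb).mat (τ G f)).det :=
      (det_mat_dualBasisOfBasis (σ G) bb (τ G f)).symm
    rw [mem_invariants_iff, hn]
    exact det_mat_invariant G _ f
  · have h1 : G.normST f = 1 := Algebra.norm_eq_one_of_not_exists_basis _ h _
    rw [h1]
    exact Subring.one_mem _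

end Groth.Agent.H40.FG
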