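import Groth.Agent.H40.FG.AGrpdBC
import Groth.Agent.H40.FG.RankPoly
import Mathlib.LinearAlgebra.TensorProduct.Finiteness
import Mathlib.RingTheory.MvPolynomial.Basic

/-!
# Norms and base change for affine groupoids in algebraic form

The norm `nm (σ h)` of an invariant element `h` of any base change `A ⊗[K] K''` comes from `K''`
(generic element argument).
-/

set_option autoImplicit false
set_option backward.isDefEq.respectTransparency.types false
universe u

open CategoryTheory CategoryTheory.Limits Matrix Polynomial TensorProduct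

namespace Groth.Agent.H40.FG

namespace DualBasis

variable {A B A' B' : Type u} [CommRing A] [CommRing B] [CommRing A'] [CommRing B']

theorem nm_map_eq_rdet {f : A →+* B} {n : ℕ} (D : DualBasis f n) (a : A) :
    D.nm (f a) = rdet (D.mat 1) a := by
  unfold nm rdet
  congr 2
  have : f a - 1 = f (a - 1) * 1 := by simp
  rw [this, D.mat_smul]

theorem nm_baseChange {f : A →+* B} (g : A →+* A') (g' : B →+* B') {f' : A' →+* B'} {n : ℕ}
    (D : DualBasis f n) (D' : DualBasis f' n) (h1 : ∀ k, D'.g k = g' (D.g k))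
    (h2 : ∀ k b, D'.c k (g' b) = g (D.c k b)) (b : B) : D'.nm (g' b) = g (D.nm b) := by
  unfold nm
  have := DualBasis.mat_baseChange g g' D D' h1 h2 (b - 1)
  rw [map_sub, map_one] at this
  rw [this, RingHom.map_det]
  congr 1
  ext i j
  simp [Matrix.add_apply, Matrix.one_apply, apply_ite g]

end DualBasis

namespace AGrpd

variable {K A B E : Type u} [CommRing K] [CommRing A] [CommRing B] [CommRing E]
    [Algebra K A] [Algebra K B] [Algebra K E] (H : AGrpd K A B E)
variable {K₁ K₂ : Type u} [CommRing K₁] [CommRing K₂] [Algebra K K₁] [Algebra K K₂]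

/-- the map `X ⊗ K₁ → X ⊗ K₂` induced by `θ : K₁ → K₂`. -/
noncomputable abbrev bcRight (X : Type u) [CommRing X] [Algebra K X] (θ : K₁ →ₐ[K] K₂) :
    X ⊗[K] K₁ →ₐ[K] X ⊗[K] K₂ :=
  Algebra.TensorProduct.map (AlgHom.id K X) θ

theorem baseChange_σ_bcRight (θ : K₁ →ₐ[K] K₂) (x : A ⊗[K] K₁) :
    (H.baseChange K₂).σ (bcRight A θ x) = bcRight B θ ((H.baseChange K₁).σ x) := by
  induction x using TensorProduct.induction_on with
  | zero => simp
  | tmul a r => simp [bcRight]
  | add x y hx hy => simp only [map_add, hx, hy]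

theorem baseChange_τ_bcRight (θ : K₁ →ₐ[K] K₂) (x : A ⊗[K] K₁) :
    (H.baseChange K₂).τ (bcRight A θ x) = bcRight B θ ((H.baseChange K₁).τ x) := by
  induction x using TensorProduct.induction_on with
  | zero => simp
  | tmul a r => simp [bcRight]
  | add x y hx hy => simp only [map_add, hx, hy]

/-- norms commute with change of the base. -/
theorem nm_bcRight (θ : K₁ →ₐ[K] K₂) {n : ℕ} (D : DualBasis H.σ.toRingHom n)
    (D₁ : DualBasis (H.baseChange K₁).σ.toRingHom n)
    (D₂ : DualBasis (H.baseChange K₂).σ.toRingHom n) (b : B ⊗[K] K₁) :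
    D₂.nm (bcRight B θ b) = bcRight A θ (D₁.nm b) := by
  obtain ⟨D₁', g1, c1⟩ := H.exists_dualBasis_baseChange K₁ D
  obtain ⟨D₂', g2, c2⟩ := H.exists_dualBasis_baseChange K₂ D
  rw [D₂.nm_eq D₂', D₁.nm_eq D₁']
  refine DualBasis.nm_baseChange (bcRight A θ).toRingHom (bcRight B θ).toRingHom D₁' D₂' ?_ ?_ b
  · intro k
    rw [g1, g2]
    simp [bcRight]
  · intro k b
    induction b using TensorProduct.induction_on with
    | zero =>
      simp only [map_zero, D₁'.c_zero, D₂'.c_zero]
    | tmul b r =>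
      have e : (bcRight B θ).toRingHom (b ⊗ₜ[K] r) = b ⊗ₜ[K] θ r := by simp [bcRight]
      rw [e, c1, c2]
      simp [bcRight]
    | add x y hx hy =>
      rw [map_add, D₂'.c_add, hx, hy, D₁'.c_add, map_add]

/-- the norm of (the image under `σ` of) an invariant element of a base change `A ⊗[K] K''` comes
from `K''`. -/
theorem nm_σ_mem_range (hex : ∀ a, H.σ a = H.τ a → a ∈ Set.range (algebraMap K A))
    {n : ℕ} (D : DualBasis H.σ.toRingHom n) (K'' : Type u) [CommRing K''] [Algebra K K'']
    (D'' : DualBasis (H.baseChange K'').σ.toRingHom n) (h : A ⊗[K] K'')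
    (hh : (H.baseChange K'').σ h = (H.baseChange K'').τ h) :
    D''.nm ((H.baseChange K'').σ h) ∈
      Set.range (Algebra.TensorProduct.includeRight : K'' →ₐ[K] A ⊗[K] K'') := by
  obtain ⟨S, hS⟩ := TensorProduct.exists_finset h
  obtain ⟨D₁, -, -⟩ := H.exists_dualBasis_baseChange (MvPolynomial S K) D
  let F : A ⊗[K] MvPolynomial S K := ∑ i : S, i.1.1 ⊗ₜ[K] (MvPolynomial.X i : MvPolynomial S K)
  let θ : MvPolynomial S K →ₐ[K] K'' := MvPolynomial.aeval (fun i : S => i.1.2)
  have hF : bcRight A θ F = h := by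
    rw [hS]
    simp only [F, map_sum, bcRight, Algebra.TensorProduct.map_tmul, AlgHom.id_apply, θ,
      MvPolynomial.aeval_X]
    exact Finset.sum_coe_sort S (fun i => i.1 ⊗ₜ[K] i.2)
  have hν := (H.baseChange (MvPolynomial S K)).nm_invariant D₁ F
  obtain ⟨ν₀, hν₀⟩ := H.baseChange_invariant_mem_range (MvPolynomial S K) hex _ hν
  refine ⟨θ ν₀, ?_⟩
  rw [hh, ← hF, baseChange_τ_bcRight, H.nm_bcRight θ D D₁ D'', ← hν₀]
  simp [bcRight]

end AGrpd

end Groth.Agent.H40.FG
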