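import Groth.Agent.H40.FG.AGrpdOfG
import Groth.Agent.H40.FG.KPoint
import Groth.Agent.H40.FG.IntegralLift
import Mathlib.AlgebraicGeometry.PullbackCarrier
import Mathlib.AlgebraicGeometry.ResidueField
import Mathlib.FieldTheory.IsAlgClosed.AlgebraicClosure

/-!
# Points of `U → Spec (invariants)` for a finite locally free affine groupoid
-/

set_option autoImplicit false
set_option backward.isDefEq.respectTransparency.types false
universe u

open CategoryTheory CategoryTheory.Limits AlgebraicGeometry Grpd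

namespace Groth.Agent.H40.FG

variable {S : Scheme.{u}} (G : GroupoidScheme S) [IsAffine G.U] [IsAffine G.R]

theorem t_toQuot : G.t ≫ G.toQuot = G.s ≫ G.toQuot := by
  unfold GroupoidScheme.toQuot
  rw [← Category.assoc, ← Category.assoc, Scheme.toSpecΓ_naturality, Scheme.toSpecΓ_naturality,
    Category.assoc, Category.assoc, ← Spec.map_comp, ← Spec.map_comp]
  congr 2
  ext c
  exact c.2.symm

/-- a morphism from an affine scheme `Spec R` to an affine scheme is `Spec` of a ring map. -/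
theorem eq_specMap_comp_isoSpec_inv {X : Scheme.{u}} [IsAffine X] {R : CommRingCat.{u}}
    (x : Spec R ⟶ X) : x = Spec.map (Spec.preimage (x ≫ X.isoSpec.hom)) ≫ X.isoSpec.inv := by
  rw [Spec.map_preimage, Category.assoc, Iso.hom_inv_id, Category.comp_id]

theorem specMap_isoSpec_inv_toQuot {R : CommRingCat.{u}} (φ : Γ(G.U, ⊤) ⟶ R) :
    (Spec.map φ ≫ G.U.isoSpec.inv) ≫ G.toQuot =
      Spec.map (CommRingCat.ofHom G.invariants.subtype ≫ φ) := by
  unfold GroupoidScheme.toQuot
  rw [Category.assoc, Scheme.isoSpec_inv_toSpecΓ_assoc, Spec.map_comp]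

theorem specMap_isoSpec_inv_comp {X Y : Scheme.{u}} [IsAffine X] [IsAffine Y] (f : X ⟶ Y)
    {R : CommRingCat.{u}} (φ : Γ(X, ⊤) ⟶ R) :
    (Spec.map φ ≫ X.isoSpec.inv) ≫ f = Spec.map (f.appTop ≫ φ) ≫ Y.isoSpec.inv := by
  rw [Category.assoc, ← Scheme.isoSpec_inv_naturality, Spec.map_comp, Category.assoc]

section

variable [IsFinite G.s] [Flat G.s] [LocallyOfFinitePresentation G.s]

/-- `k`-points of `U` with the same image in `Spec C` are the target and source of a `k`-point of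
`R`. -/
theorem exists_arrow_of_toQuot_eq (k : Type u) [Field k] [IsAlgClosed k]
    (x₀ x₁ : Spec (CommRingCat.of k) ⟶ G.U) (h : x₀ ≫ G.toQuot = x₁ ≫ G.toQuot) :
    ∃ r : Spec (CommRingCat.of k) ⟶ G.R, r ≫ G.t = x₀ ∧ r ≫ G.s = x₁ := by
  set φ₀ := Spec.preimage (x₀ ≫ G.U.isoSpec.hom) with hφ₀
  set φ₁ := Spec.preimage (x₁ ≫ G.U.isoSpec.hom) with hφ₁
  have e₀ := eq_specMap_comp_isoSpec_inv x₀
  have e₁ := eq_specMap_comp_isoSpec_inv x₁
  rw [← hφ₀] at e₀
  rw [← hφ₁] at e₁
  rw [e₀, e₁, specMap_isoSpec_inv_toQuot, specMap_isoSpec_inv_toQuot] at h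
  have h' := Spec.map_injective h
  have hagree : ∀ c : G.invariants, φ₀.hom (G.invariants.subtype c) = φ₁.hom (G.invariants.subtype c) :=
    fun c => congrArg (fun ψ => ψ.hom c) h'
  obtain ⟨n, ⟨D⟩⟩ := exists_dualBasis_σ G
  letI := algB G
  letI := algE G
  obtain ⟨ρ, hρ₀, hρ₁⟩ := (aGrpd G).exists_hom_of_agree
    (fun a ha => ⟨⟨a, ha⟩, rfl⟩) D φ₀.hom φ₁.hom hagree
  refine ⟨Spec.map (CommRingCat.ofHom ρ) ≫ G.R.isoSpec.inv, ?_, ?_⟩
  · rw [specMap_isoSpec_inv_comp, e₀]
    congr 2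
    ext a
    exact RingHom.congr_fun hρ₀ a
  · rw [specMap_isoSpec_inv_comp, e₁]
    congr 2
    ext a
    exact RingHom.congr_fun hρ₁ a

/-- `k`-points of `Spec C` lift to `U`. -/
theorem exists_lift_toQuot (k : Type u) [Field k] [IsAlgClosed k]
    (m : Spec (CommRingCat.of k) ⟶ Spec (CommRingCat.of G.invariants)) :
    ∃ x : Spec (CommRingCat.of k) ⟶ G.U, x ≫ G.toQuot = m := by
  haveI := isIntegral_invariants G
  obtain ⟨φ, hφ⟩ := exists_extension_of_isIntegral (C := G.invariants) (A := Γ(G.U, ⊤))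
    Subtype.val_injective (Spec.preimage m).hom
  refine ⟨Spec.map (CommRingCat.ofHom φ) ≫ G.U.isoSpec.inv, ?_⟩
  rw [specMap_isoSpec_inv_toQuot]
  have : CommRingCat.ofHom G.invariants.subtype ≫ CommRingCat.ofHom φ = Spec.preimage m := by
    ext c
    exact RingHom.congr_fun hφ c
  rw [this, Spec.map_preimage]

theorem toQuot_surjective : Function.Surjective G.toQuot := by
  haveI := isIntegral_invariants G
  have h1 : Function.Surjective
      (Spec.map (CommRingCat.ofHom G.invariants.subtype)) := by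
    have hinj : Function.Injective (algebraMap G.invariants Γ(G.U, ⊤)) := Subtype.val_injective
    haveI : FaithfulSMul G.invariants Γ(G.U, ⊤) :=
      (faithfulSMul_iff_algebraMap_injective _ _).mpr hinj
    exact Algebra.IsIntegral.comap_surjective G.invariants Γ(G.U, ⊤)
  have h2 : Function.Surjective G.U.toSpecΓ := G.U.toSpecΓ.surjective
  intro m
  obtain ⟨p, rfl⟩ := h1 m
  obtain ⟨u, rfl⟩ := h2 p
  exact ⟨u, rfl⟩

theorem toQuot_eq_iff (u₀ u₁ : G.U) :
    G.toQuot u₀ = G.toQuot u₁ ↔ ∃ r : G.R, G.t r = u₀ ∧ G.s r = u₁ := by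
  constructor
  · intro h
    obtain ⟨z, hz₀, hz₁⟩ := Scheme.Pullback.exists_preimage_pullback (f := G.toQuot)
      (g := G.toQuot) u₀ u₁ h
    let κ := (pullback G.toQuot G.toQuot).residueField z
    let k := AlgebraicClosure κ
    let w : Spec (CommRingCat.of k) ⟶ pullback G.toQuot G.toQuot :=
      Spec.map (CommRingCat.ofHom (algebraMap κ k)) ≫
        (pullback G.toQuot G.toQuot).fromSpecResidueField z
    obtain ⟨r, hr₀, hr₁⟩ := exists_arrow_of_toQuot_eq G k (w ≫ pullback.fst _ _)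
      (w ≫ pullback.snd _ _) (by
        rw [Category.assoc (f := w), Category.assoc (f := w), pullback.condition])
    let pt : Spec (CommRingCat.of k) := ⟨⊥, Ideal.isPrime_bot⟩
    have hw : w pt = z := by
      change (Spec.map _ ≫ _) pt = z
      rw [Scheme.Hom.comp_apply, Scheme.fromSpecResidueField_apply]
    refine ⟨r pt, ?_, ?_⟩
    · rw [← Scheme.Hom.comp_apply, hr₀, Scheme.Hom.comp_apply, hw, hz₀]
    · rw [← Scheme.Hom.comp_apply, hr₁, Scheme.Hom.comp_apply, hw, hz₁]
  · rintro ⟨r, rfl, rfl⟩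
    rw [← Scheme.Hom.comp_apply, ← Scheme.Hom.comp_apply, t_toQuot]

end

end Groth.Agent.H40.FG
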