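import Groth.Agent.H40.FG.GenMono
import Mathlib.RingTheory.Finiteness.Descent
import Mathlib.RingTheory.Flat.FaithfullyFlat.Algebra
import Mathlib.RingTheory.RingHom.FaithfullyFlat

/-!
# `U → Spec (invariants)` is finite locally free and `R = U ×_M U`
-/

set_option autoImplicit false
set_option backward.isDefEq.respectTransparency.types false
universe u

open CategoryTheory CategoryTheory.Limits AlgebraicGeometry Grpd TensorProduct

namespace Groth.Agent.H40.FG

variable {S : Scheme.{u}} (G : GroupoidScheme S) [IsAffine G.U] [IsAffine G.R]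

/-- `a ⊗ a' ↦ t♯ a * s♯ a'` on `Γ(U) ⊗[C] Γ(U)`. -/
noncomputable def tsMap : Γ(G.U, ⊤) ⊗[G.invariants] Γ(G.U, ⊤) →+* Γ(G.R, ⊤) :=
  letI := algB G
  letI := algE G
  (Algebra.TensorProduct.productMap (aGrpd G).τ (aGrpd G).σ).toRingHom

@[simp] theorem tsMap_tmul (a a' : Γ(G.U, ⊤)) : tsMap G (a ⊗ₜ a') = τ G a * σ G a' := by
  letI := algB G
  letI := algE G
  change Algebra.TensorProduct.productMap (aGrpd G).τ (aGrpd G).σ (a ⊗ₜ a') = _
  rw [Algebra.TensorProduct.productMap_apply_tmul]
  rfl

section

variable [IsFinite G.s] [Flat G.s] [LocallyOfFinitePresentation G.s] [Mono G.j]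

theorem tsMap_bijective : Function.Bijective (tsMap G) := by
  letI := algB G
  letI := algE G
  exact (hyp_aGrpd G).concl.bij

theorem flat_invariants : Module.Flat G.invariants Γ(G.U, ⊤) := by
  letI := algB G
  letI := algE G
  exact (hyp_aGrpd G).concl.flat

theorem faithfullyFlat_invariants : Module.FaithfullyFlat G.invariants Γ(G.U, ⊤) := by
  haveI := flat_invariants G
  haveI := isIntegral_invariants G
  have hinj : Function.Injective (algebraMap G.invariants Γ(G.U, ⊤)) := Subtype.val_injective
  haveI : FaithfulSMul G.invariants Γ(G.U, ⊤) :=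
    (faithfulSMul_iff_algebraMap_injective _ _).mpr hinj
  exact Module.FaithfullyFlat.of_comap_surjective
    (Algebra.IsIntegral.comap_surjective G.invariants Γ(G.U, ⊤))

/-- `Γ(U) → Γ(U) ⊗[C] Γ(U)` (left factor) is `t♯` up to the isomorphism `tsMap`. -/
theorem algebraMap_eq_comp :
    algebraMap Γ(G.U, ⊤) (Γ(G.U, ⊤) ⊗[G.invariants] Γ(G.U, ⊤)) =
      (RingEquiv.ofBijective (tsMap G) (tsMap_bijective G)).symm.toRingHom.comp (τ G) := by
  ext a
  apply (RingEquiv.ofBijective (tsMap G) (tsMap_bijective G)).injective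
  simp only [RingHom.comp_apply, RingEquiv.toRingHom_eq_coe, RingEquiv.coe_toRingHom,
    RingEquiv.apply_symm_apply]
  change tsMap G (a ⊗ₜ 1) = _
  rw [tsMap_tmul, map_one, mul_one]

theorem finite_subtype [IsFinite G.t] : G.invariants.subtype.Finite := by
  have hFF : (algebraMap G.invariants Γ(G.U, ⊤)).FaithfullyFlat :=
    RingHom.faithfullyFlat_algebraMap_iff.mpr (faithfullyFlat_invariants G)
  have H : (algebraMap Γ(G.U, ⊤) (Γ(G.U, ⊤) ⊗[G.invariants] Γ(G.U, ⊤))).Finite := by
    rw [algebraMap_eq_comp]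
    exact (RingHom.Finite.of_surjective _ (RingEquiv.surjective _)).comp G.t.finite_appTop
  exact RingHom.Finite.codescendsAlong_faithfullyFlat.algebraMap_tensorProduct _ _ _ _ hFF H

theorem finitePresentation_subtype [LocallyOfFinitePresentation G.t] :
    G.invariants.subtype.FinitePresentation := by
  have hFF : (algebraMap G.invariants Γ(G.U, ⊤)).FaithfullyFlat :=
    RingHom.faithfullyFlat_algebraMap_iff.mpr (faithfullyFlat_invariants G)
  have H : (algebraMap Γ(G.U, ⊤) (Γ(G.U, ⊤) ⊗[G.invariants] Γ(G.U, ⊤))).FinitePresentation := by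
    rw [algebraMap_eq_comp]
    exact (RingHom.FinitePresentation.of_bijective (RingEquiv.bijective _)).comp
      G.t.finitePresentation_appTop
  exact RingHom.FinitePresentation.codescendsAlong_faithfullyFlat.algebraMap_tensorProduct _ _ _ _ hFF H

theorem flat_subtype : G.invariants.subtype.Flat :=
  RingHom.flat_algebraMap_iff.mpr (flat_invariants G)

end

end Groth.Agent.H40.FG
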