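import Groth.Agent.H40.FG.QuotFinal

/-!
# `U → Spec (invariants)` is finite locally free and `R = U ×_M U`: scheme level
-/

set_option autoImplicit false
set_option backward.isDefEq.respectTransparency.types false
universe u

open CategoryTheory CategoryTheory.Limits AlgebraicGeometry Grpd TensorProduct

namespace Groth.Agent.H40.FG

variable {S : Scheme.{u}} (G : GroupoidScheme S) [IsAffine G.U] [IsAffine G.R]
  [IsFinite G.s] [Flat G.s] [LocallyOfFinitePresentation G.s] [Mono G.j]

theorem toQuot_isFinite [IsFinite G.t] : IsFinite G.toQuot := by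
  haveI : IsFinite (Spec.map (CommRingCat.ofHom G.invariants.subtype)) :=
    (IsFinite.SpecMap_iff _).mpr (finite_subtype G)
  unfold GroupoidScheme.toQuot
  infer_instance

theorem toQuot_flat : Flat G.toQuot := by
  haveI : Flat (Spec.map (CommRingCat.ofHom G.invariants.subtype)) :=
    Flat.SpecMap_iff.mpr (flat_subtype G)
  unfold GroupoidScheme.toQuot
  infer_instance

theorem toQuot_locallyOfFinitePresentation [LocallyOfFinitePresentation G.t] :
    LocallyOfFinitePresentation G.toQuot := by
  haveI : LocallyOfFinitePresentation (Spec.map (CommRingCat.ofHom G.invariants.subtype)) :=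
    (LocallyOfFinitePresentation.SpecMap_iff _).mpr (finitePresentation_subtype G)
  unfold GroupoidScheme.toQuot
  infer_instance

theorem isPushout_ts : IsPushout (CommRingCat.ofHom G.invariants.subtype)
    (CommRingCat.ofHom G.invariants.subtype) G.t.appTop G.s.appTop := by
  have h := CommRingCat.isPushout_tensorProduct G.invariants Γ(G.U, ⊤) Γ(G.U, ⊤)
  refine h.of_iso (Iso.refl _) (Iso.refl _) (Iso.refl _)
    (RingEquiv.ofBijective (tsMap G) (tsMap_bijective G)).toCommRingCatIso ?_ ?_ ?_ ?_
  · rfl
  · rfl
  · ext a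
    change tsMap G (a ⊗ₜ 1) = _
    rw [tsMap_tmul, map_one, mul_one]
    rfl
  · ext a
    change tsMap G (1 ⊗ₜ a) = _
    rw [tsMap_tmul, map_one, one_mul]
    rfl

theorem isPullback_ts : IsPullback G.t G.s G.toQuot G.toQuot := by
  have h1 := isPullback_SpecMap_of_isPushout _ _ _ _ (isPushout_ts G)
  refine h1.of_iso G.R.isoSpec.symm G.U.isoSpec.symm G.U.isoSpec.symm (Iso.refl _) ?_ ?_ ?_ ?_
  · exact Scheme.isoSpec_inv_naturality G.t
  · exact Scheme.isoSpec_inv_naturality G.s
  · unfold GroupoidScheme.toQuot
    simp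
  · unfold GroupoidScheme.toQuot
    simp

end Groth.Agent.H40.FG
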